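import Cfsg.Agent.Lib.Inv59.Basic
import Cfsg.Agent.Lib.Signalizer.CoreFixed
import Cfsg.Agent.Lib.Balance.Locals
import Cfsg.Agent.Lib.CentralInt88.OddAction
import Cfsg.Agent.Lib.LargeExtra.Basic

/-!
# Coprime action of a four-group on groups of odd order (helper88)
-/

set_option autoImplicit false
set_option linter.style.haveILetI false
set_option linter.unusedSectionVars false

namespace Cfsg.Agent.Inter3185.U34

open Subgroup Cfsg.Agent.Lib Cfsg.Agent.Lib.Inv59.Basic
open scoped commutatorElement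

universe u

variable {G : Type u} [Group G]

/-- Two subgroups normalising each other and meeting trivially commute. -/
theorem commute_of_inf_eq_bot {X Y : Subgroup G} {x y : G} (hx : x ∈ X) (hy : y ∈ Y)
    (hxY : x ∈ normalizer (Y : Set G)) (hyX : y ∈ normalizer (X : Set G)) (h : X ⊓ Y = ⊥) :
    x * y = y * x := by
  rw [← commutatorElement_eq_one_iff_mul_comm, ← mem_bot, ← h, commutatorElement_def]
  refine ⟨?_, mul_mem ((mem_normalizer_iff.1 hxY _).1 hy) (Y.inv_mem hy)⟩
  rw [show x * y * x⁻¹ * y⁻¹ = x * (y * x⁻¹ * y⁻¹) by group]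
  exact mul_mem hx ((mem_normalizer_iff.1 hyX _).1 (X.inv_mem hx))

variable [Finite G]

theorem coprime_two {P : Subgroup G} {u : G} (hu : u * u = 1) (hP : Odd (Nat.card P)) :
    (Nat.card (zpowers u)).Coprime (Nat.card P) := by
  rw [Nat.card_zpowers]
  exact (Nat.coprime_two_left.2 hP).coprime_dvd_left (orderOf_dvd_of_pow_eq_one (by rw [pow_two, hu]))

omit [Finite G] in
theorem mem_zpowers_two {a c : G} (ha : a * a = 1) (hc : c ∈ zpowers a) : c = 1 ∨ c = a := by
  obtain ⟨i, rfl⟩ := hc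
  rcases Int.even_or_odd i with ⟨j, rfl⟩ | ⟨j, rfl⟩
  · left
    show a ^ (j + j) = 1
    rw [← two_mul, zpow_mul, zpow_two, ha, one_zpow]
  · right
    show a ^ (2 * j + 1) = a
    rw [zpow_add, zpow_mul, zpow_two, ha, one_zpow, one_mul, zpow_one]

theorem orderOf_odd {P : Subgroup G} (hP : Odd (Nat.card P)) {x : G} (hx : x ∈ P) :
    Odd (orderOf x) := hP.of_dvd_nat (orderOf_dvd_natCard P hx)

theorem sq_eq_one_of_odd {P : Subgroup G} (hP : Odd (Nat.card P)) {x : G} (hx : x ∈ P)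
    (h : x * x = 1) : x = 1 :=
  orderOf_eq_one_iff.1 (Nat.eq_one_of_dvd_coprimes (Nat.coprime_two_left.2 (orderOf_odd hP hx))
    (orderOf_dvd_of_pow_eq_one (by rw [pow_two, h])) dvd_rfl)

/-- An invariant group of odd order is generated by the three fixed point subgroups. -/
theorem le_of_fixed {W M : Subgroup G} (hW : Odd (Nat.card W)) {a b : G} (ha : a * a = 1)
    (hb : b * b = 1) (hab : a * b = b * a) (haW : a ∈ normalizer (W : Set G))
    (hbW : b ∈ normalizer (W : Set G)) (h1 : ∀ x ∈ W, a * x = x * a → x ∈ M)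
    (h2 : ∀ x ∈ W, b * x = x * b → x ∈ M) (h3 : ∀ x ∈ W, a * b * x = x * (a * b) → x ∈ M) :
    W ≤ M := by
  set φ := W.normalizerMonoidHom
  set an : ↥(normalizer (W : Set G)) := ⟨a, haW⟩
  set bn : ↥(normalizer (W : Set G)) := ⟨b, hbW⟩
  have hfix : ∀ (d : ↥(normalizer (W : Set G))) (p : ↥W), φ d p = p → (d : G) * p = p * d :=
    fun d p hp => mul_inv_eq_iff_eq_mul.1 (congrArg Subtype.val hp :)
  exact Subgroup.subgroupOf_eq_top.1 (CentralInt88.fixed_generate hW (φ an) (φ bn)
    (by rw [← map_mul, show an * an = 1 from Subtype.ext ha, map_one])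
    (by rw [← map_mul, show bn * bn = 1 from Subtype.ext hb, map_one])
    (by rw [← map_mul, ← map_mul, show an * bn = bn * an from Subtype.ext hab]) (M.subgroupOf W)
    (fun p hp => h1 p p.2 (hfix an p hp)) (fun p hp => h2 p p.2 (hfix bn p hp))
    (fun p hp => h3 p p.2 (hfix (an * bn) p (by rw [map_mul]; exact hp))))

/-- An involution without fixed points inverts. -/
theorem inverts {W : Subgroup G} {a : G} (ha : a * a = 1) (haW : a ∈ normalizer (W : Set G))
    (h : ∀ x ∈ W, a * x = x * a → x = 1) : ∀ x ∈ W, a * x * a⁻¹ = x⁻¹ :=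
  LargeExtra.Basic.inverts_of_fixedPointFree ha W (fun x hx => (mem_normalizer_iff.1 haW x).1 hx)
    fun x hx hx' => h x hx (mul_inv_eq_iff_eq_mul.1 hx')

omit [Finite G] in
theorem comm_of_inverts {W : Subgroup G} {a : G} (h : ∀ x ∈ W, a * x * a⁻¹ = x⁻¹) {x y : G}
    (hx : x ∈ W) (hy : y ∈ W) : x * y = y * x := by
  have e : a * (x * y) * a⁻¹ = a * x * a⁻¹ * (a * y * a⁻¹) := by group
  rw [h _ (mul_mem hx hy), h x hx, h y hy, mul_inv_rev] at e
  have e2 := congrArg (fun z => z⁻¹) e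
  simpa [mul_inv_rev] using e2

/-- Thompson's `A × B` lemma for subgroups. -/
theorem axb {q : ℕ} [Fact q.Prime] {Q B A : Subgroup G} (hQ : IsPGroup q ↥Q) (hB : IsPGroup q ↥B)
    (hBQ : B ≤ normalizer (Q : Set G)) (hAQ : A ≤ normalizer (Q : Set G))
    (hA : ∀ x ∈ A, (orderOf x).Coprime q) (hAB : A ≤ centralizer (B : Set G))
    (hC : A ≤ centralizer ((Q ⊓ centralizer (B : Set G) : Subgroup G) : Set G)) :
    A ≤ centralizer (Q : Set G) := fun x hx =>
  Balance.mem_centralizer_pGroup hQ hB hBQ (hAQ hx) (hA x hx) (hAB hx) fun y hy =>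
    mem_centralizer_singleton_iff.2 (mem_centralizer_iff.1 (hC hx) y hy)

theorem coprime_of_pgroup {s q : ℕ} [hs : Fact s.Prime] [hq : Fact q.Prime] (h : s ≠ q)
    {A : Subgroup G} (hA : IsPGroup s ↥A) : ∀ x ∈ A, (orderOf x).Coprime q := by
  intro x hx
  obtain ⟨k, hk⟩ := IsPGroup.iff_orderOf.1 hA ⟨x, hx⟩
  rw [Subgroup.orderOf_mk] at hk
  rw [hk]
  exact ((Nat.coprime_primes hs.out hq.out).2 h).pow_left k

theorem odd_of_coprime_two {x : G} (h : Odd (orderOf x)) : (orderOf x).Coprime 2 :=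
  Nat.coprime_two_right.2 h

/-- `a` moves a subgroup acting on `P` and inverts the group it generates with its conjugate: if
that subgroup centralises the fixed points of `a`, it centralises `P`. -/
theorem inverted_centralizes {r : ℕ} [Fact r.Prime] {P : Subgroup G} (hPr : IsPGroup r ↥P)
    (hP : Odd (Nat.card P)) {a x : G} (ha : a * a = 1)
    (haP : a ∈ normalizer (P : Set G)) (hxP : x ∈ normalizer (P : Set G)) (hx : a * x * a⁻¹ = x⁻¹)
    (hxo : Odd (orderOf x)) (hcop : (orderOf x).Coprime (Nat.card P))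
    (hfix : ∀ p ∈ P, a * p = p * a → x * p = p * x) :
    ∀ p ∈ P, x * p = p * x := by
  -- strong induction on the fixed points of `x` via normalisers
  set Q : Subgroup G := P ⊓ centralizer ({x} : Set G) with hQ
  have hQP : Q ≤ P := inf_le_left
  have haQ : a ∈ normalizer (Q : Set G) := by
    refine mem_normalizer_of_conj_mem _ fun y hy => ⟨(mem_normalizer_iff.1 haP y).1 hy.1, ?_⟩
    show a * y * a⁻¹ ∈ centralizer ({x} : Set G)
    rw [mem_centralizer_singleton_iff]
    have h1 : y * x⁻¹ = x⁻¹ * y := ((show Commute y x from mem_centralizer_singleton_iff.1 hy.2).inv_right).eq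
    have h2 : a * (x⁻¹) * a⁻¹ = x := by
      rw [show a * x⁻¹ * a⁻¹ = (a * x * a⁻¹)⁻¹ by group, hx, inv_inv]
    calc a * y * a⁻¹ * x = a * y * a⁻¹ * (a * x⁻¹ * a⁻¹) := by rw [h2]
      _ = a * (y * x⁻¹) * a⁻¹ := by group
      _ = a * (x⁻¹ * y) * a⁻¹ := by rw [h1]
      _ = (a * x⁻¹ * a⁻¹) * (a * y * a⁻¹) := by group
      _ = x * (a * y * a⁻¹) := by rw [h2]
  have hxQ : x ∈ normalizer (Q : Set G) := by
    refine mem_normalizer_of_conj_mem _ fun y hy => ?_
    have h1 := mem_centralizer_singleton_iff.1 hy.2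
    rw [← h1, mul_inv_cancel_right]
    exact hy
  set N : Subgroup G := P ⊓ normalizer (Q : Set G) with hN
  -- `x` acts trivially on `N / Q`
  have hinv : ∀ n ∈ N, n * (a * n * a⁻¹) ∈ Q := by
    intro n hn
    -- the section has no fixed point of `a`
    set Ns := normalizer (Q : Set G)
    haveI : (Q.subgroupOf Ns).Normal := normal_in_normalizer
    set π := QuotientGroup.mk' (Q.subgroupOf Ns)
    set W : Subgroup (↥Ns ⧸ Q.subgroupOf Ns) := (P.subgroupOf Ns).map π with hW
    set aN : ↥Ns := ⟨a, haQ⟩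
    have hWodd : Odd (Nat.card W) :=
      hP.of_dvd_nat (((P.subgroupOf Ns).card_map_dvd _).trans
        ((P.subgroupOf Ns).card_map_of_injective (f := Ns.subtype) Ns.subtype_injective ▸
          card_dvd_of_le (by rintro _ ⟨y, hy, rfl⟩; exact hy)))
    have hkey := inverts (W := W) (a := π aN) (by rw [← map_mul, show aN * aN = 1 from Subtype.ext ha, map_one])
      (by
        refine mem_normalizer_of_conj_mem _ ?_
        rintro _ ⟨y, hy, rfl⟩
        refine ⟨aN * y * aN⁻¹, (mem_normalizer_iff.1 haP (y : G)).1 hy, by simp [π]⟩)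
      (by
        rintro _ ⟨y, hy, rfl⟩ hc
        have hmem : (aN * y * aN⁻¹ * y⁻¹ : ↥Ns) ∈ Q.subgroupOf Ns := by
          rw [← QuotientGroup.eq_one_iff]
          show π (aN * y * aN⁻¹ * y⁻¹) = 1
          rw [map_mul, map_mul, map_mul, map_inv, map_inv, hc, mul_inv_cancel_right, mul_inv_cancel]
        obtain ⟨m, hm, hmy⟩ := Coprime.exists_fixed_mul (A := zpowers a) (N := Q) (zpowers_le.2 haQ)
          (coprime_two ha (hP.of_dvd_nat (card_dvd_of_le hQP))) (Or.inl (Coprime.isSolvable_zpowers a))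
          (k := (y : G)) (by
            intro c hc'
            rcases mem_zpowers_two ha hc' with rfl | rfl
            · simp
            · exact hmem)
        refine (QuotientGroup.eq_one_iff y).2 ?_
        rw [mem_subgroupOf]
        have h1 : m * (y : G) ∈ Q := ⟨mul_mem (hQP hm) hy, mem_centralizer_singleton_iff.2
          (hfix _ (mul_mem (hQP hm) hy) (mem_centralizer_iff.1 hmy a (mem_zpowers a))).symm⟩
        have := mul_mem (inv_mem hm) h1
        rwa [inv_mul_cancel_left] at this)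
    have h1 := hkey (π ⟨n, hn.2⟩) ⟨⟨n, hn.2⟩, hn.1, rfl⟩
    rw [← map_inv, ← map_mul, ← map_mul, eq_inv_iff_mul_eq_one, ← map_mul] at h1
    have h2 : (a * n * a⁻¹ * n) ∈ Q :=
      Subgroup.mem_subgroupOf.1 ((QuotientGroup.eq_one_iff (N := Q.subgroupOf Ns) _).1 h1)
    have := (mem_normalizer_iff.1 hn.2 _).1 h2
    rwa [show n * (a * n * a⁻¹ * n) * n⁻¹ = n * (a * n * a⁻¹) by group] at this
  have hxN : ∀ n ∈ N, x * n * x⁻¹ * n⁻¹ ∈ Q := by
    intro n hn
    have hm : x * n * x⁻¹ ∈ N := ⟨(mem_normalizer_iff.1 hxP n).1 hn.1,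
      mul_mem (mul_mem hxQ hn.2) ((normalizer (Q : Set G)).inv_mem hxQ)⟩
    -- apply the inversion to `n` and to its conjugate
    have h1 := hinv n hn
    have h2 := hinv _ hm
    have h3 : a * (x * n * x⁻¹) * a⁻¹ = x⁻¹ * (a * n * a⁻¹) * x := by
      rw [show a * (x * n * x⁻¹) * a⁻¹ = (a * x * a⁻¹) * (a * n * a⁻¹) * (a * x * a⁻¹)⁻¹ by group,
        hx, inv_inv]
    rw [h3] at h2
    -- `(xnx⁻¹)(x⁻¹ aⁿ x) ∈ Q`; conjugating by `x` gives `x²` trivial on `n`
    have h4 := (mem_normalizer_iff.1 hxQ _).1 h2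
    rw [show x * (x * n * x⁻¹ * (x⁻¹ * (a * n * a⁻¹) * x)) * x⁻¹ =
      x * x * n * (x * x)⁻¹ * (a * n * a⁻¹) by group] at h4
    have h5 : x * x * n * (x * x)⁻¹ * n⁻¹ ∈ Q := by
      have := mul_mem h4 (inv_mem h1)
      rwa [show x * x * n * (x * x)⁻¹ * (a * n * a⁻¹) * (n * (a * n * a⁻¹))⁻¹ =
        x * x * n * (x * x)⁻¹ * n⁻¹ by group] at this
    obtain ⟨k, hk⟩ := hxo
    have hpow : ∀ j : ℕ, (x * x) ^ j * n * ((x * x) ^ j)⁻¹ * n⁻¹ ∈ Q := by
      intro j
      have hy2 := mul_mem hxQ hxQ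
      generalize x * x = y at hy2 h5 ⊢
      induction j with
      | zero => simp
      | succ j ih =>
        have h6 := (mem_normalizer_iff.1 hy2 _).1 ih
        have := mul_mem h6 h5
        rwa [show y * (y ^ j * n * (y ^ j)⁻¹ * n⁻¹) * y⁻¹ * (y * n * y⁻¹ * n⁻¹) =
          y ^ (j + 1) * n * (y ^ (j + 1))⁻¹ * n⁻¹ by rw [pow_succ']; group] at this
    have hxk : (x * x) ^ (k + 1) = x := by
      rw [← pow_two, ← pow_mul, show 2 * (k + 1) = orderOf x + 1 by omega, pow_succ,
        pow_orderOf_eq_one, one_mul]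
    have := hpow (k + 1)
    rwa [hxk] at this
  -- coprime action: `x` centralises `N`, so `N = Q` and `Q = P`
  have hxC : ∀ n ∈ N, x * n = n * x := by
    intro n hn
    obtain ⟨m, hm, hmn⟩ := Coprime.exists_fixed_mul (A := zpowers x) (N := Q) (zpowers_le.2 hxQ)
      (by rw [Nat.card_zpowers]; exact hcop.coprime_dvd_right (card_dvd_of_le hQP))
      (Or.inl (Coprime.isSolvable_zpowers x)) (k := n) (by
        intro y hy
        obtain ⟨j, rfl⟩ : ∃ j : ℕ, x ^ j = y :=
          (Submonoid.mem_powers_iff _ _).1 ((isOfFinOrder_of_finite x).mem_powers_iff_mem_zpowers.2 hy)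
        induction j with
        | zero => simp
        | succ j ih =>
          have h6 := (mem_normalizer_iff.1 hxQ _).1 (ih (pow_mem (mem_zpowers x) j))
          have := mul_mem h6 (hxN n hn)
          rwa [show x * (x ^ j * n * (x ^ j)⁻¹ * n⁻¹) * x⁻¹ * (x * n * x⁻¹ * n⁻¹) =
            x ^ (j + 1) * n * (x ^ (j + 1))⁻¹ * n⁻¹ by rw [pow_succ']; group] at this)
    have h1 : x * (m * n) = m * n * x := mem_centralizer_iff.1 hmn x (mem_zpowers x)
    have h2 : m * x = x * m := mem_centralizer_singleton_iff.1 hm.2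
    rw [← mul_assoc, ← h2, mul_assoc, mul_assoc] at h1
    exact mul_left_cancel h1
  have hNQ : N ≤ Q := fun n hn => ⟨hn.1, mem_centralizer_singleton_iff.2 (hxC n hn).symm⟩
  intro p hp
  have hall : Q = P := by
    haveI := hPr.isNilpotent
    by_contra hne
    have hlt : Q.subgroupOf P < ⊤ := lt_top_iff_ne_top.2 fun e =>
      hne (le_antisymm hQP (subgroupOf_eq_top.1 e))
    obtain ⟨y, hyN, hyQ⟩ := SetLike.exists_of_lt
      (Group.normalizerCondition_of_isNilpotent (Q.subgroupOf P) hlt)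
    refine hyQ (mem_subgroupOf.2 (hNQ ⟨y.2, mem_normalizer_of_conj_mem _ fun z hz => ?_⟩))
    have := (mem_normalizer_iff.1 hyN ⟨z, hQP hz⟩).1 (mem_subgroupOf.2 hz)
    simpa [mem_subgroupOf] using this
  exact (mem_centralizer_singleton_iff.1 ((hall ▸ hp : p ∈ Q)).2).symm

end Cfsg.Agent.Inter3185.U34
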