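import Cfsg.Agent.Lib.Walter66.Config
import Cfsg.Agent.Lib.Walter.KnownFacts
import Cfsg.Agent.Lib.Inv59.Basic
import Cfsg.Agent.Lib.Linear.Order

/-!
# A 2-element over `PSL(2,q)`, `q ≡ 3, 5 mod 8`, fixing a four-group (helper88)
-/

set_option autoImplicit false
set_option linter.style.haveILetI false
set_option linter.unusedSectionVars false

namespace Cfsg.Agent.Inter3185.U34

open Cfsg.Agent.Lib Cfsg.Agent.Lib.AutPSL Cfsg.Agent.Lib.GorensteinWalter
open scoped MatrixGroups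

universe u

/-- In a group over `PSL(2,q)`, `q ≡ 3, 5 mod 8`, with trivial centraliser, a 2-element fixing a
four-group of the normal subgroup lies in it. -/
theorem mem_of_four_fixed {X : Type u} [Group X] [Finite X] (L : Subgroup X) [L.Normal]
    (hL : Walter.IsOddType ↥L) (hc : Subgroup.centralizer (L : Set X) = ⊥) {a b x : X}
    (ha : a ∈ L) (hb : b ∈ L) (ha2 : a * a = 1) (hb2 : b * b = 1) (hab : a * b = b * a)
    (ha1 : a ≠ 1) (hb1 : b ≠ 1) (hne : a ≠ b) (hx : ∃ k : ℕ, x ^ 2 ^ k = 1) (hxa : x * a = a * x)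
    (hxb : x * b = b * x) : x ∈ L := by
  classical
  haveI : Fact (Nat.Prime 2) := ⟨Nat.prime_two⟩
  haveI : Fintype ↥L := Fintype.ofFinite _
  obtain ⟨F, i₁, i₂, hF, h5, ⟨e⟩⟩ := hL
  have hodd : Odd (Fintype.card F) := Nat.odd_iff.2 (by omega)
  have h2 : (2 : F) ≠ 0 := PSLTwo.Sylow.two_ne_zero_of_odd (Nat.odd_iff.1 hodd)
  have hns : ∀ r : ℕ, Fintype.card F ≠ r * r := fun r h => by
    have h4 := Nat.mul_mod r r 8
    have h3 : r % 8 < 8 := Nat.mod_lt _ (by norm_num)
    rw [h] at hF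
    rw [h4] at hF
    interval_cases (r % 8) <;> omega
  obtain ⟨i, j, w, Q⟩ := Walter66.exists_quat (F := F) h2
  obtain ⟨-, ho⟩ := Walter.Known.odd_facts hF h5 e
  set i₀ : ↥L := e.symm (QuotientGroup.mk i) with hi₀
  set j₀ : ↥L := e.symm (QuotientGroup.mk j) with hj₀
  have hi2 : i₀ * i₀ = 1 := by rw [hi₀, ← map_mul, Q.sq_mk_i, map_one]
  have hj2 : j₀ * j₀ = 1 := by rw [hj₀, ← map_mul, Q.sq_mk_j, map_one]
  have hij : i₀ * j₀ = j₀ * i₀ := by rw [hi₀, hj₀, ← map_mul, ← map_mul, Q.comm_mk]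
  set a' : ↥L := ⟨a, ha⟩
  set b' : ↥L := ⟨b, hb⟩
  obtain ⟨P, hP⟩ := (Walter66.closure_pgroup (s := ({a', b'} : Set ↥L)) (by
      rintro y (rfl | rfl)
      exacts [Subtype.ext ha2, Subtype.ext hb2]) (by
      rintro y (rfl | rfl) z (rfl | rfl)
      exacts [rfl, Subtype.ext hab, Subtype.ext hab.symm, rfl])).exists_le_sylow
  obtain ⟨R, hR⟩ := (Walter66.closure_pgroup (s := ({i₀, j₀} : Set ↥L)) (by
      rintro y (rfl | rfl)
      exacts [hi2, hj2]) (by
      rintro y (rfl | rfl) z (rfl | rfl)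
      exacts [rfl, hij, hij.symm, rfl])).exists_le_sylow
  obtain ⟨l, hl⟩ := MulAction.exists_smul_eq ↥L R P
  have haP : a' ∈ (P : Subgroup ↥L) := hP (Subgroup.subset_closure (Or.inl rfl))
  have hbP : b' ∈ (P : Subgroup ↥L) := hP (Subgroup.subset_closure (Or.inr rfl))
  have hmem : ∀ y ∈ (P : Subgroup ↥L), x * (y : X) = (y : X) * x := by
    intro y hy
    have hsub : ({1, a', b', a' * b'} : Finset ↥L) ⊆ Finset.univ.filter (· ∈ (P : Subgroup ↥L)) := by
      intro z hz
      simp only [Finset.mem_insert, Finset.mem_singleton] at hz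
      simp only [Finset.mem_filter, Finset.mem_univ, true_and]
      rcases hz with rfl | rfl | rfl | rfl
      exacts [one_mem _, haP, hbP, mul_mem haP hbP]
    have hcard : ({1, a', b', a' * b'} : Finset ↥L).card = 4 := by
      have h1 : a' ≠ 1 := fun e1 => ha1 (congrArg Subtype.val e1)
      have h2' : b' ≠ 1 := fun e1 => hb1 (congrArg Subtype.val e1)
      have h3 : a' ≠ b' := fun e1 => hne (congrArg Subtype.val e1)
      have h4 : a' * b' ≠ 1 := fun e1 => h3 (by
        rw [eq_inv_of_mul_eq_one_left e1, inv_eq_of_mul_eq_one_right (show b' * b' = 1 from Subtype.ext hb2)])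
      have h5' : a' * b' ≠ a' := fun e1 => h2' (mul_eq_left.1 e1)
      have h6 : a' * b' ≠ b' := fun e1 => h1 (mul_eq_right.1 e1)
      simp [Finset.card_insert_of_notMem, h1.symm, h2'.symm, h3, h4.symm, h5'.symm, h6.symm]
    have heq := Finset.eq_of_subset_of_card_le hsub (by
      rw [hcard, ← Fintype.card_subtype, ← Nat.card_eq_fintype_card]
      exact (ho.four P).le)
    have : y ∈ ({1, a', b', a' * b'} : Finset ↥L) := by
      rw [heq]; simpa using hy
    simp only [Finset.mem_insert, Finset.mem_singleton] at this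
    rcases this with rfl | rfl | rfl | rfl
    · simp
    · exact hxa
    · exact hxb
    · show x * (a * b) = a * b * x
      rw [← mul_assoc, hxa, mul_assoc, hxb, mul_assoc]
  have hconj : ∀ y ∈ (R : Subgroup ↥L),
      ((l : X)⁻¹ * x * l) * (y : X) = (y : X) * ((l : X)⁻¹ * x * l) := by
    intro y hy
    have hyP : l * y * l⁻¹ ∈ (P : Subgroup ↥L) := by
      rw [← hl, Sylow.coe_subgroup_smul]
      exact ⟨y, hy, rfl⟩
    have h1 := hmem _ hyP
    simp only [Subgroup.coe_mul, Subgroup.coe_inv] at h1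
    calc ((l : X)⁻¹ * x * l) * (y : X) = (l : X)⁻¹ * (x * ((l : X) * y * (l : X)⁻¹)) * l := by group
      _ = (l : X)⁻¹ * ((l : X) * y * (l : X)⁻¹ * x) * l := by rw [h1]
      _ = (y : X) * ((l : X)⁻¹ * x * l) := by group
  set x' : X := (l : X)⁻¹ * x * l with hx'
  obtain ⟨k, hk⟩ := hx
  have hk' : x' ^ 2 ^ k = 1 := by
    rw [hx', show (l : X)⁻¹ * x * l = (l : X)⁻¹ * x * ((l : X)⁻¹)⁻¹ by rw [inv_inv], conj_pow, hk]
    group
  obtain ⟨g, τ, hφ⟩ := Model.exists_semilinear L e x'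
  have hτ : τ = 1 := by
    refine Walter66.fieldAut_two_power hns (k := k) ?_
    have h : (Model.autHom L e x') ^ 2 ^ k = (conjAut g * fieldAut τ) ^ 2 ^ k := by rw [hφ]
    rw [← map_pow, hk', map_one, conjAut_mul_fieldAut_pow] at h
    exact (eq_one_of_conj_field (le_refl 2) h.symm).2
  rw [hτ, map_one, mul_one] at hφ
  have hfix : ∀ y ∈ (R : Subgroup ↥L), (conjAut g) (e y) = e y := by
    intro y hy
    rw [← hφ, Model.autHom_apply]
    congr 1
    refine Subtype.ext ?_
    rw [MulAut.conjNormal_apply, hconj y hy, mul_inv_cancel_right]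
  have hiR : i₀ ∈ (R : Subgroup ↥L) := hR (Subgroup.subset_closure (Or.inl rfl))
  have hjR : j₀ ∈ (R : Subgroup ↥L) := hR (Subgroup.subset_closure (Or.inr rfl))
  obtain ⟨v, -, hg⟩ := Q.fix_linear h2
    (by simpa [hi₀] using hfix _ hiR) (by simpa [hj₀] using hfix _ hjR)
  obtain ⟨l', rfl⟩ := e.surjective v
  have hX : x' = (l' : X) := Model.autHom_injective L e hc (by rw [hφ, hg, Model.autHom_of_mem L e l'])
  have hmx : x = (l : X) * x' * (l : X)⁻¹ := by rw [hx']; group
  rw [hmx, hX]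
  exact mul_mem (mul_mem l.2 l'.2) (inv_mem l.2)

/-- A simple group of even characteristic type has no Sylow 2-subgroup of order 4. -/
theorem not_evenType_of_four {L : Type u} [Group L] [Finite L] (P : Sylow 2 L)
    (hP : Nat.card ↥(P : Subgroup L) = 4) : ¬ Walter.IsEvenType L := by
  haveI : Fact (Nat.Prime 2) := ⟨Nat.prime_two⟩
  rintro ⟨n, F, _, _, hn, hF, ⟨e⟩⟩
  have hev : Even (Fintype.card F) := by
    rw [hF]; exact Nat.even_pow.2 ⟨even_two, by omega⟩
  have h8 : 2 ^ 3 ∣ Nat.card L := by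
    rw [Nat.card_congr e.toEquiv, Cfsg.Agent.Lib.Linear.card_PSL_two_of_even hev, hF]
    exact dvd_mul_of_dvd_left (dvd_mul_of_dvd_left (pow_dvd_pow 2 hn) _) _
  have := Nat.le_of_dvd Nat.card_pos (P.pow_dvd_card_of_pow_dvd_card h8)
  omega

end Cfsg.Agent.Inter3185.U34
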