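import Cfsg.Agent.Lib.Inter3185.U34.Setting
import Cfsg.Agent.Lib.Inter3185.U34.AutFour
import Cfsg.Agent.Lib.Walter.KnownFactsJR
import Cfsg.Agent.Lib.Inter3308.Socle
import Cfsg.Agent.Lib.Balance.LBalance

/-!
# Groups without cores with a Sylow 2-subgroup of type `U₃(4)` and fused central involutions
(helper88)
-/

set_option autoImplicit false
set_option linter.style.haveILetI false
set_option linter.unusedSectionVars false

namespace Cfsg.Agent.Inter3185.U34

open Subgroup Cfsg.Agent.Lib Cfsg.Agent.Lib.Inv59.Basic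

universe u

open PiHomog3258.Local74 in
/-- Type `U₃(4)` is invariant under isomorphism. -/
theorem sixty4_congr {A B : Type u} [Group A] [Group B] (e : A ≃* B) (D : Sixty4 A) :
    Sixty4 B := by
  have hc : ∀ z, e z ∈ center B ↔ z ∈ center A := fun z => by
    rw [mem_center_iff, mem_center_iff]
    constructor
    · exact fun h y => e.injective (by rw [map_mul, map_mul, h (e y)])
    · intro h y
      obtain ⟨y, rfl⟩ := e.surjective y
      rw [← map_mul, ← map_mul, h y]
  have hmap : (center A).map e.toMonoidHom = center B := by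
    ext y
    constructor
    · rintro ⟨z, hz, rfl⟩
      exact (hc z).2 hz
    · intro hy
      exact ⟨e.symm y, (hc _).1 (by rwa [e.apply_symm_apply]), e.apply_symm_apply y⟩
  refine ⟨(Nat.card_congr e.toEquiv).symm.trans D.card, ?_, ?_, ?_, ?_, ?_, ?_⟩
  · rw [← hmap, card_map_of_injective (f := e.toMonoidHom) e.injective]
    exact D.card_center
  · rw [← hmap, ← D.comm, _root_.commutator_def, _root_.commutator_def, map_commutator,
      map_top_of_surjective (f := e.toMonoidHom) e.surjective]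
  · intro z hz
    obtain ⟨z, rfl⟩ := e.surjective z
    rw [← map_mul, D.center_sq z ((hc z).1 hz), map_one]
  · intro x
    obtain ⟨x, rfl⟩ := e.surjective x
    rw [← map_mul]
    exact (hc _).2 (D.sq x)
  · intro x hx
    obtain ⟨x, rfl⟩ := e.surjective x
    exact (hc x).2 (D.invol x (e.injective (by rw [map_mul, hx, map_one])))
  · intro x hx z hz
    obtain ⟨x, rfl⟩ := e.surjective x
    obtain ⟨z, rfl⟩ := e.surjective z
    obtain ⟨t, ht⟩ := D.nd x (fun h => hx ((hc x).2 h)) z ((hc z).1 hz)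
    exact ⟨e t, by rw [← ht]; simp⟩

/-- The inductive hypothesis: the conclusion below the order `n`. -/
def Below (n : ℕ) : Prop :=
  ∀ (E : Type u) [Group E] [Finite E], Nat.card E < n → IsSimpleGroup E → ∀ T : Sylow 2 E,
    VHyp E → PiHomog3258.Local74.Sixty4 ↥(T : Subgroup E) → ∀ v, Cen T v → v ≠ 1 →
      centralizer ({v} : Set E) ≤ Nrm T

variable {Q : Type u} [Group Q] [Finite Q]

/-- A group without cores with fused central involutions. -/
structure Tri (T : Sylow 2 Q) (a b n : Q) : Prop where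
  sixty : PiHomog3258.Local74.Sixty4 ↥(T : Subgroup Q)
  ha : Cen T a
  hb : Cen T b
  a_ne : a ≠ 1
  b_ne : b ≠ 1
  b_ne_a : b ≠ a
  four : ∀ x ∈ (T : Subgroup Q), x * x = 1 → x = 1 ∨ x = a ∨ x = b ∨ x = a * b
  n_mem : n ∈ Nrm T
  n_a : n * a * n⁻¹ = b
  n_b : n * b * n⁻¹ = a * b
  uniq : ∀ t, t * a * t⁻¹ ∈ (T : Subgroup Q) → t * b * t⁻¹ ∈ (T : Subgroup Q) → t ∈ Nrm T
  sol : ∀ v, Cen T v → v ≠ 1 → Group.IsSolvable ↥(centralizer ({v} : Set Q))
  odd : ∀ N : Subgroup Q, N.Normal → Odd (Nat.card N) → N = ⊥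
  two : ∀ N : Subgroup Q, N.Normal → IsPGroup 2 N → N = ⊥

namespace Tri

variable {T : Sylow 2 Q} {a b n : Q} (X : Tri T a b n)
include X

theorem inv_a : a⁻¹ = a := inv_eq_of_mul_eq_one_right X.ha.sq

theorem ab_comm : a * b = b * a := X.hb.comm a X.ha.mem

theorem n_c : n * (a * b) * n⁻¹ = a := by
  rw [show n * (a * b) * n⁻¹ = n * a * n⁻¹ * (n * b * n⁻¹) by group, X.n_a, X.n_b, X.ab_comm,
    ← mul_assoc, X.hb.sq, one_mul]

theorem c_ne : a * b ≠ 1 := fun h => X.b_ne_a ((eq_inv_of_mul_eq_one_right h).trans X.inv_a)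

/-- A normal subgroup containing one central involution contains the four-group. -/
theorem mem_of_one {N : Subgroup Q} (hN : N.Normal) {v : Q} (hv : v ∈ N) (hv1 : v ≠ 1)
    (hvT : v ∈ (T : Subgroup Q)) (hv2 : v * v = 1) : a ∈ N ∧ b ∈ N := by
  have h1 : a ∈ N → b ∈ N := fun h => X.n_a ▸ hN.conj_mem a h n
  have h2 : b ∈ N → a * b ∈ N := fun h => X.n_b ▸ hN.conj_mem b h n
  have h3 : a * b ∈ N → a ∈ N := fun h => X.n_c ▸ hN.conj_mem (a * b) h n
  rcases X.four v hvT hv2 with rfl | rfl | rfl | rfl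
  · exact absurd rfl hv1
  · exact ⟨hv, h1 hv⟩
  · exact ⟨h3 (h2 hv), hv⟩
  · exact ⟨h3 hv, h1 (h3 hv)⟩

/-- Centralisers of involutions are soluble. -/
theorem sol_all {t : Q} (ht2 : t * t = 1) (ht1 : t ≠ 1) :
    Group.IsSolvable ↥(centralizer ({t} : Set Q)) := by
  haveI : Fact (Nat.Prime 2) := ⟨Nat.prime_two⟩
  obtain ⟨q, -, hq⟩ := exists_conj_mem_sylow T ⊤ (zpowers t) le_top
    (IsPGroup.of_card (n := 1) (by
      rw [Nat.card_zpowers, orderOf_eq_prime (by rw [pow_two, ht2]) ht1, pow_one])) le_top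
  set v := q * t * q⁻¹ with hv
  have hv2 : v * v = 1 := by
    rw [hv, show q * t * q⁻¹ * (q * t * q⁻¹) = q * (t * t) * q⁻¹ by group, ht2, mul_one, mul_inv_cancel]
  have hv1 : v ≠ 1 := fun e => ht1 (conj_eq_one_iff.1 e)
  have hcen : Cen T v := by
    rcases X.four v (hq t (mem_zpowers t)) hv2 with h | h | h | h
    · exact absurd h hv1
    · exact h ▸ X.ha
    · exact h ▸ X.hb
    · exact h ▸ X.ha.mul X.hb
  haveI := X.sol v hcen hv1
  refine Group.isSolvable_of_isSolvable_injective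
    (f := ((MulAut.conj q).toMonoidHom.comp (centralizer ({t} : Set Q)).subtype).codRestrict
      (centralizer ({v} : Set Q)) fun x => mem_centralizer_singleton_iff.2 ?_)
    fun x y h => Subtype.ext ((MulAut.conj q).injective (congrArg Subtype.val h))
  show q * (x : Q) * q⁻¹ * (q * t * q⁻¹) = q * t * q⁻¹ * (q * (x : Q) * q⁻¹)
  calc q * (x : Q) * q⁻¹ * (q * t * q⁻¹) = q * ((x : Q) * t) * q⁻¹ := by group
    _ = q * (t * (x : Q)) * q⁻¹ := by rw [mem_centralizer_singleton_iff.1 x.2]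
    _ = q * t * q⁻¹ * (q * (x : Q) * q⁻¹) := by group

/-- A normal subgroup without involutions is trivial. -/
theorem exists_invol {N : Subgroup Q} (hN : N.Normal) (hne : N ≠ ⊥) :
    ∃ t ∈ N, t * t = 1 ∧ t ≠ 1 := by
  haveI : Fact (Nat.Prime 2) := ⟨Nat.prime_two⟩
  have h2 : 2 ∣ Nat.card N := by
    by_contra h
    exact hne (X.odd N hN (Nat.odd_iff.2 (Nat.two_dvd_ne_zero.1 h)))
  obtain ⟨t, ht⟩ := exists_prime_orderOf_dvd_card' 2 h2
  refine ⟨t, t.2, ?_, fun e => ?_⟩
  · have := pow_orderOf_eq_one t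
    rw [ht, pow_two] at this
    exact congrArg Subtype.val this
  · rw [show t = 1 from Subtype.ext e, orderOf_one] at ht
    omega

/-- There is no soluble normal subgroup. -/
theorem sol_bot (N : Subgroup Q) (hN : N.Normal) (hs : Group.IsSolvable ↥N) : N = ⊥ := by
  classical
  haveI : Fact (Nat.Prime 2) := ⟨Nat.prime_two⟩
  by_contra hne
  obtain ⟨M, hM, hMmin⟩ := (Set.toFinite {K : Subgroup Q | K.Normal ∧ K ≤ N ∧ K ≠ ⊥}).exists_minimal
    ⟨N, hN, le_rfl, hne⟩
  haveI := hM.1
  haveI : Group.IsSolvable ↥M := Coprime.isSolvable_of_le hM.2.1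
  have hab : ∀ x ∈ M, ∀ y ∈ M, x * y = y * x := by
    have hlt : ⁅M, M⁆ = ⊥ := by
      by_contra h
      have hle : ⁅M, M⁆ ≤ M := commutator_le_left M M
      have he : ⁅M, M⁆ = M :=
        le_antisymm hle (hMmin ⟨inferInstance, hle.trans hM.2.1, h⟩ hle)
      have h1 : _root_.commutator ↥M = ⊤ := by
        apply (map_injective M.subtype_injective)
        rw [_root_.commutator_def, map_commutator, ← MonoidHom.range_eq_map, range_subtype, he]
      haveI : Nontrivial ↥M := (nontrivial_iff_ne_bot M).2 hM.2.2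
      exact absurd h1 (Group.IsSolvable.commutator_lt_top_of_nontrivial ↥M).ne
    intro x hx y hy
    rw [← commutatorElement_eq_one_iff_mul_comm, ← mem_bot, ← hlt]
    exact commutator_mem_commutator hx hy
  obtain ⟨t, ht, ht2, ht1⟩ := X.exists_invol hM.1 hM.2.2
  let M₂ : Subgroup Q :=
    { carrier := {x | x ∈ M ∧ x * x = 1}
      one_mem' := ⟨one_mem _, one_mul 1⟩
      mul_mem' := by
        rintro x y ⟨hx, hx2⟩ ⟨hy, hy2⟩
        refine ⟨mul_mem hx hy, ?_⟩
        rw [mul_assoc, ← mul_assoc y, hab y hy x hx, mul_assoc x y y, hy2, mul_one, hx2]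
      inv_mem' := by
        rintro x ⟨hx, hx2⟩
        refine ⟨inv_mem hx, ?_⟩
        rw [← mul_inv_rev, hx2, inv_one] }
  have hM₂ : M₂.Normal := ⟨fun x hx q => ⟨hM.1.conj_mem x hx.1 q, by
    rw [show q * x * q⁻¹ * (q * x * q⁻¹) = q * (x * x) * q⁻¹ by group, hx.2, mul_one, mul_inv_cancel]⟩⟩
  have h := X.two M₂ hM₂ fun x => ⟨1, Subtype.ext (by rw [pow_one, pow_two]; exact x.2.2)⟩
  exact ht1 (mem_bot.1 (h ▸ (⟨ht, ht2⟩ : t ∈ M₂)))

/-- Commuting subgroups do not both fail to be soluble, if one contains an involution. -/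
theorem comm_sol {A B : Subgroup Q} {t : Q} (ht : t ∈ A) (ht2 : t * t = 1) (ht1 : t ≠ 1)
    (h : ∀ y ∈ B, y * t = t * y) : Group.IsSolvable ↥B := by
  haveI := X.sol_all ht2 ht1
  exact Coprime.isSolvable_of_le fun y hy => mem_centralizer_singleton_iff.2 (h y hy)

/-- There is a simple normal subgroup with trivial centraliser; it contains the four-group. -/
theorem exists_socle : ∃ E : Subgroup Q, E.Normal ∧ IsSimpleGroup ↥E ∧ ¬ IsMulCommutative ↥E ∧
    centralizer (E : Set Q) = ⊥ ∧ a ∈ E ∧ b ∈ E := by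
  classical
  haveI : Fact (Nat.Prime 2) := ⟨Nat.prime_two⟩
  haveI : Nontrivial Q := ⟨⟨a, 1, X.a_ne⟩⟩
  obtain ⟨E, hEn, hEne, hEmin⟩ := Subnormality.UniqueMaximal.exists_minimal_normal (G := Q)
  haveI := hEn
  have hEns : ¬ Group.IsSolvable ↥E := fun h => hEne (X.sol_bot E hEn h)
  obtain ⟨t, ht, ht2, ht1⟩ := X.exists_invol hEn hEne
  have hnab : ¬ IsMulCommutative ↥E := fun h =>
    hEns (Group.isSolvable_of_comm fun x y => h.is_comm.comm x y)
  have hcent : centralizer (E : Set Q) = ⊥ := by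
    refine X.sol_bot _ inferInstance (X.comm_sol ht ht2 ht1 fun y hy => ?_)
    exact (mem_centralizer_iff.1 hy t ht).symm
  haveI : Nontrivial ↥E := (nontrivial_iff_ne_bot E).2 hEne
  have hsimple : IsSimpleGroup ↥E := by
    refine ⟨fun K hK => or_iff_not_imp_left.2 fun hKne => ?_⟩
    obtain ⟨L, hL, hLmin⟩ := (Set.toFinite {L : Subgroup ↥E | L.Normal ∧ L ≤ K ∧ L ≠ ⊥}).exists_minimal
      ⟨K, hK, le_rfl, hKne⟩
    haveI := hL.1
    by_contra hKt
    -- `L` is moved by `Q`
    obtain ⟨q, y, hy, hqy⟩ : ∃ (q : Q) (y : ↥E), y ∈ L ∧ (MulAut.conjNormal q : MulAut ↥E) y ∉ L := by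
      by_contra h
      push Not at h
      have hn : (L.map E.subtype).Normal := ⟨by
        rintro _ ⟨y, hy, rfl⟩ q
        exact ⟨_, h q y hy, by simp⟩⟩
      have he := hEmin _ hn (map_subtype_le _) fun hb =>
        hL.2.2 ((map_eq_bot_iff_of_injective _ E.subtype_injective).1 hb)
      refine hKt ((eq_top_iff' K).2 fun z => hL.2.1 ?_)
      exact (mem_map_iff_mem E.subtype_injective).1 (he.symm ▸ z.2)
    set e : MulAut ↥E := MulAut.conjNormal q
    set L' := L.map e.toMonoidHom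
    haveI : L'.Normal := hL.1.map _ e.surjective
    have hinf : L ⊓ L' = ⊥ := by
      by_contra hne
      have hle : L ≤ L' := (hLmin ⟨inferInstance, inf_le_left.trans hL.2.1, hne⟩ inf_le_left).trans
        inf_le_right
      have heq : L = L' := eq_of_le_of_card_ge hle
        (card_map_of_injective (f := e.toMonoidHom) e.injective).le
      exact hqy (heq.symm ▸ (⟨y, hy, rfl⟩ : e y ∈ L'))
    have hcomm : ∀ x ∈ L, ∀ z ∈ L', x * z = z * x := fun x hx z hz =>
      (commute_of_normal_of_disjoint L L' hL.1 inferInstance (disjoint_iff.2 hinf) x z hx hz).eq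
    -- `L` is not soluble
    have hLns : ¬ Group.IsSolvable ↥L := by
      intro hs
      obtain ⟨R, ⟨hRn, hRs⟩, hRmax⟩ := (Set.toFinite
        {R : Subgroup ↥E | R.Normal ∧ Group.IsSolvable ↥R}).exists_maximal ⟨L, hL.1, hs⟩
      haveI := hRn
      have hge : ∀ M : Subgroup ↥E, M.Normal → Group.IsSolvable ↥M → M ≤ R := fun M hM hs' => by
        haveI := hM
        exact (le_sup_left : M ≤ M ⊔ R).trans
          (hRmax ⟨inferInstance, Inter3308.solvable_sup R M hRs hs'⟩ le_sup_right)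
      have h1 : (R.map E.subtype).Normal := ⟨by
        rintro _ ⟨z, hz, rfl⟩ p
        have hle := hge (R.map (MulAut.conjNormal p : MulAut ↥E).toMonoidHom)
          (hRn.map _ (MulAut.conjNormal p : MulAut ↥E).surjective)
          (Group.isSolvable_of_surjective (f := (MulAut.conjNormal p : MulAut ↥E).toMonoidHom.subgroupMap R)
            (MonoidHom.subgroupMap_surjective _ _))
        exact ⟨_, hle ⟨z, hz, rfl⟩, by simp⟩⟩
      haveI := hRs
      have h2 := X.sol_bot _ h1 (Group.isSolvable_of_surjective (f := E.subtype.subgroupMap R)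
        (MonoidHom.subgroupMap_surjective _ _))
      rw [map_eq_bot_iff_of_injective _ E.subtype_injective] at h2
      exact hL.2.2 (le_bot_iff.1 (h2 ▸ hge L hL.1 hs))
    have hLns' : ¬ Group.IsSolvable ↥L' := fun h => hLns (Group.isSolvable_of_isSolvable_injective
      (f := (L.equivMapOfInjective e.toMonoidHom e.injective).toMonoidHom) (MulEquiv.injective _))
    obtain ⟨s, hs⟩ := exists_prime_orderOf_dvd_card' 2 (G := ↥L) (by
      by_contra h
      exact hLns (OddOrder.FeitThompson.isSolvable_of_odd_card (Nat.odd_iff.2 (Nat.two_dvd_ne_zero.1 h))))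
    have hsol := X.comm_sol (A := L.map E.subtype) (B := L'.map E.subtype) (t := ((s : ↥E) : Q))
      ⟨s, s.2, rfl⟩ (by
        have := pow_orderOf_eq_one s
        rw [hs, pow_two] at this
        exact congrArg (fun r : ↥L => ((r : ↥E) : Q)) this)
      (fun e1 => by
        rw [show s = 1 from Subtype.ext (Subtype.ext e1), orderOf_one] at hs
        omega)
      (by
        rintro _ ⟨z, hz, rfl⟩
        exact (congrArg Subtype.val (hcomm s s.2 z hz)).symm)
    exact hLns' (Group.isSolvable_of_isSolvable_injective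
      (f := (L'.equivMapOfInjective _ E.subtype_injective).toMonoidHom) (MulEquiv.injective _))
  haveI := hsimple
  obtain ⟨t', ht'⟩ : ∃ t' : Q, t' ∈ E ∧ t' ∈ (T : Subgroup Q) ∧ t' * t' = 1 ∧ t' ≠ 1 := by
    obtain ⟨q, -, hq⟩ := exists_conj_mem_sylow T ⊤ (zpowers t) le_top
      (IsPGroup.of_card (n := 1) (by
        rw [Nat.card_zpowers, orderOf_eq_prime (by rw [pow_two, ht2]) ht1, pow_one])) le_top
    refine ⟨q * t * q⁻¹, hEn.conj_mem t ht q, hq t (mem_zpowers t), ?_, fun e => ht1 (conj_eq_one_iff.1 e)⟩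
    rw [show q * t * q⁻¹ * (q * t * q⁻¹) = q * (t * t) * q⁻¹ by group, ht2, mul_one, mul_inv_cancel]
  obtain ⟨h1, h2⟩ := X.mem_of_one hEn ht'.1 ht'.2.2.2 ht'.2.1 ht'.2.2.1
  exact ⟨E, hEn, hsimple, hnab, hcent, h1, h2⟩

/-- In a non-identity square the third involution appears. -/
theorem third {u w r : Q} (hu : u = a ∨ u = b ∨ u = a * b) (hw : w = a ∨ w = b ∨ w = a * b)
    (huw : u ≠ w) (hr : r = 1 ∨ r = a ∨ r = b ∨ r = a * b) (h1 : r ≠ 1) (h2 : r ≠ u) (h3 : r ≠ w) :
    r = u * w := by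
  have e1 : b * a = a * b := X.ab_comm.symm
  have e2 : a * (a * b) = b := by rw [← mul_assoc, X.ha.sq, one_mul]
  have e3 : b * (a * b) = a := by rw [← mul_assoc, e1, mul_assoc, X.hb.sq, mul_one]
  have e4 : a * b * a = b := by rw [mul_assoc, e1, e2]
  have e5 : a * b * b = a := by rw [mul_assoc, X.hb.sq, mul_one]
  rcases hu with rfl | rfl | rfl <;> rcases hw with rfl | rfl | rfl <;>
    rcases hr with rfl | rfl | rfl | rfl <;>
    first
      | exact absurd rfl huw | exact absurd rfl h1 | exact absurd rfl h2 | exact absurd rfl h3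
      | rfl | exact e1.symm | exact e2.symm | exact e3.symm | exact e4.symm | exact e5.symm

/-- The normal subgroup contains the Sylow subgroup, and the centralisers in it lie in the
normaliser of the Sylow subgroup. -/
theorem exists_le_Nrm (hK : Walter.PropKnown.{u}) (hKF : Walter.PropKnownFacts.{u}) {m : ℕ}
    (hlt : Below.{u} m) (hQ : Nat.card Q < m) :
    ∃ E : Subgroup Q, E.Normal ∧ (T : Subgroup Q) ≤ E ∧
      ∀ v, Cen T v → v ≠ 1 → E ⊓ centralizer ({v} : Set Q) ≤ Nrm T := by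
  classical
  haveI : Fact (Nat.Prime 2) := ⟨Nat.prime_two⟩
  haveI : Fintype Q := Fintype.ofFinite Q
  obtain ⟨E, hEn, hEs, hEna, hEc, haE, hbE⟩ := X.exists_socle
  haveI := hEn
  haveI := hEs
  obtain ⟨TE, hTE⟩ := Balance.exists_sylow_inf_normal T E
  have hmemTE : ∀ y : ↥E, y ∈ (TE : Subgroup ↥E) ↔ (y : Q) ∈ (T : Subgroup Q) := fun y => by
    rw [hTE, mem_subgroupOf]
  -- squares
  have hsq : ∀ x ∈ (T : Subgroup Q), x * x = 1 ∨ x * x = a ∨ x * x = b ∨ x * x = a * b := fun x hx =>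
    X.four _ (mul_mem hx hx) (congrArg Subtype.val (X.sixty.center_sq _ (X.sixty.sq ⟨x, hx⟩)) :)
  have hVc : ∀ x ∈ (T : Subgroup Q), x * x = 1 → ∀ y ∈ (T : Subgroup Q), x * y = y * x := fun x hx hx2 y hy =>
    (congrArg Subtype.val (mem_center_iff.1 (X.sixty.invol ⟨x, hx⟩ (Subtype.ext hx2)) ⟨y, hy⟩)).symm
  set Tf := Finset.univ.filter (fun x : Q => x ∈ (T : Subgroup Q) ∧ x ∈ E) with hTf
  have hmemTf : ∀ x, x ∈ Tf ↔ x ∈ (T : Subgroup Q) ∧ x ∈ E := fun x => by simp [hTf]
  set fib : Q → Finset Q := fun v => Tf.filter fun x => x * x = v with hfib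
  have hmemfib : ∀ x v, x ∈ fib v ↔ (x ∈ (T : Subgroup Q) ∧ x ∈ E) ∧ x * x = v := fun x v => by
    simp [hfib, hmemTf]
  have hone : fib 1 = {1, a, b, a * b} := by
    ext x
    rw [hmemfib]
    simp only [Finset.mem_insert, Finset.mem_singleton]
    constructor
    · exact fun h => X.four x h.1.1 h.2
    · rintro (rfl | rfl | rfl | rfl)
      exacts [⟨⟨one_mem _, one_mem _⟩, one_mul 1⟩, ⟨⟨X.ha.mem, haE⟩, X.ha.sq⟩,
        ⟨⟨X.hb.mem, hbE⟩, X.hb.sq⟩,
        ⟨⟨(X.ha.mul X.hb).mem, mul_mem haE hbE⟩, (X.ha.mul X.hb).sq⟩]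
  have hVcard : ({1, a, b, a * b} : Finset Q).card = 4 := by
    have h5 : a * b ≠ a := fun e => X.b_ne (mul_eq_left.1 e)
    have h6 : a * b ≠ b := fun e => X.a_ne (mul_eq_right.1 e)
    simp [Finset.card_insert_of_notMem, X.a_ne.symm, X.b_ne.symm, X.b_ne_a.symm, X.c_ne.symm,
      h5.symm, h6.symm]
  have hshift : ∀ v w, n * v * n⁻¹ = w → (fib v).card ≤ (fib w).card := fun v w h => by
    refine Finset.card_le_card_of_injOn (fun x => n * x * n⁻¹) ?_
      fun x _ y _ e => mul_left_cancel (mul_right_cancel e)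
    intro x hx
    rw [Finset.mem_coe, hmemfib] at hx ⊢
    refine ⟨⟨(mem_normalizer_iff.1 X.n_mem x).1 hx.1.1, hEn.conj_mem x hx.1.2 n⟩, ?_⟩
    rw [← h, ← hx.2]; group
  have hba := hshift a b X.n_a
  have hcb := hshift b _ X.n_b
  have hac := hshift _ a X.n_c
  have hsum : Tf.card = 4 + 3 * (fib a).card := by
    rw [Finset.card_eq_sum_card_fiberwise (f := fun x => x * x) (t := {1, a, b, a * b}) (by
      intro x hx
      simp only [Finset.mem_coe, Finset.mem_insert, Finset.mem_singleton]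
      exact hsq x ((hmemTf x).1 hx).1)]
    change ∑ v ∈ ({1, a, b, a * b} : Finset Q), (fib v).card = _
    have h5 : a * b ≠ a := fun e => X.b_ne (mul_eq_left.1 e)
    have h6 : a * b ≠ b := fun e => X.a_ne (mul_eq_right.1 e)
    rw [Finset.sum_insert (by simp [X.a_ne.symm, X.b_ne.symm, X.c_ne.symm]),
      Finset.sum_insert (by simp [X.b_ne_a.symm, h5.symm]),
      Finset.sum_insert (by simp [h6.symm]), Finset.sum_singleton, hone, hVcard]
    omega
  have hcardTE : Nat.card ↥(TE : Subgroup ↥E) = Tf.card := by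
    rw [← Nat.card_eq_finsetCard]
    exact Nat.card_congr ⟨fun y => ⟨((y : ↥E) : Q), (hmemTf _).2 ⟨(hmemTE _).1 y.2, (y : ↥E).2⟩⟩,
      fun x => ⟨⟨x.1, ((hmemTf _).1 x.2).2⟩, (hmemTE _).2 ((hmemTf _).1 x.2).1⟩, fun y => rfl, fun x => rfl⟩
  have hdvd : Nat.card ↥(TE : Subgroup ↥E) ∣ 2 ^ 6 := by
    refine (dvd_of_eq ?_).trans ((card_dvd_of_le (inf_le_left : (T : Subgroup Q) ⊓ E ≤ T)).trans
      (dvd_of_eq (X.sixty.card.trans (by norm_num))))
    rw [← card_map_of_injective E.subtype_injective, hTE, subgroupOf_map_subtype]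
  obtain ⟨i, hi6, hi⟩ := (Nat.dvd_prime_pow Nat.prime_two).1 hdvd
  have hm : 2 ^ i = 4 + 3 * (fib a).card := by rw [← hi, hcardTE, hsum]
  have hcases : i = 2 ∨ i = 4 ∨ i = 6 := by
    interval_cases i <;> omega
  -- the abelian cases are impossible
  have habelian : (∀ x ∈ Tf, ∀ y ∈ Tf, x * y = y * x) → i ≠ 6 → False := by
    intro hab hi'
    have hAb : Walter.AbelianSylow ↥E := fun P => by
      refine ⟨⟨fun x y => (Sylow.equiv P TE).injective ?_⟩⟩
      rw [map_mul, map_mul]
      exact Subtype.ext (Subtype.ext (hab _ ((hmemTf _).2 ⟨(hmemTE _).1 (Sylow.equiv P TE x).2,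
        ((Sylow.equiv P TE x) : ↥E).2⟩) _ ((hmemTf _).2 ⟨(hmemTE _).1 (Sylow.equiv P TE y).2,
        ((Sylow.equiv P TE y) : ↥E).2⟩)))
    have hknown := hK ↥E hEs hEna hAb
    rcases hcases with h2 | h4 | h6
    · subst h2
      rcases hknown with h | h | h
      · exact not_evenType_of_four TE (by rw [hi]; norm_num) h
      · -- the Sylow subgroup of `Q` falls into the socle
        refine absurd (show (fib a).card = 20 from ?_) (by omega)
        have hTle : (T : Subgroup Q) ≤ E := fun x hx => by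
          obtain ⟨k, hk⟩ := T.isPGroup' ⟨x, hx⟩
          exact mem_of_four_fixed E h hEc haE hbE X.ha.sq X.hb.sq X.ab_comm X.a_ne X.b_ne
            X.b_ne_a.symm ⟨k, congrArg Subtype.val hk⟩ (X.ha.comm x hx) (X.hb.comm x hx)
        have : Nat.card ↥(TE : Subgroup ↥E) = 64 := by
          rw [← X.sixty.card, ← card_map_of_injective E.subtype_injective, hTE, subgroupOf_map_subtype,
            inf_eq_left.2 hTle]
        omega
      · rw [h.card_sylow TE] at hi
        norm_num at hi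
    · subst h4
      obtain ⟨x, hx⟩ : (fib a).Nonempty := Finset.card_pos.1 (by omega)
      rw [hmemfib] at hx
      have h1 := ((hKF.1 ↥E hknown).elementary TE).2 ⟨x, hx.1.2⟩ ((hmemTE _).2 hx.1.1)
      refine X.a_ne ?_
      rw [← hx.2, ← pow_two]
      exact congrArg Subtype.val h1
    · exact hi' h6
  rcases hcases with h2 | h4 | h6
  · refine absurd ?_ (fun h : False => h)
    refine habelian (fun x hx y hy => hVc x ((hmemTf x).1 hx).1 ?_ y ((hmemTf y).1 hy).1) (by omega)
    rcases hsq x ((hmemTf x).1 hx).1 with h | h | h | h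
    · exact h
    all_goals
      exfalso
      subst h2
    · exact Finset.card_ne_zero_of_mem ((hmemfib x a).2 ⟨(hmemTf x).1 hx, h⟩) (by omega)
    · have := Finset.card_pos.2 ⟨x, (hmemfib x b).2 ⟨(hmemTf x).1 hx, h⟩⟩
      omega
    · have := Finset.card_pos.2 ⟨x, (hmemfib x (a * b)).2 ⟨(hmemTf x).1 hx, h⟩⟩
      omega
  · refine absurd ?_ (fun h : False => h)
    refine habelian (fun x hx y hy => ?_) (by omega)
    obtain ⟨hxT, hxE⟩ := (hmemTf x).1 hx
    obtain ⟨hyT, hyE⟩ := (hmemTf y).1 hy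
    by_cases hx1 : x * x = 1
    · exact hVc x hxT hx1 y hyT
    by_cases hy1 : y * y = 1
    · exact (hVc y hyT hy1 x hxT).symm
    subst h4
    have hinV : ∀ z ∈ ({1, a, b, a * b} : Finset Q), z ∈ (T : Subgroup Q) ∧ z ∈ E ∧ z * z = 1 := fun z hz => by
      rw [← hone, hmemfib] at hz
      exact ⟨hz.1.1, hz.1.2, hz.2⟩
    have hcoset : ∀ p ∈ (T : Subgroup Q), p ∈ E → p * p ≠ 1 → ∀ q ∈ fib (p * p),
        ∃ z ∈ ({1, a, b, a * b} : Finset Q), q = p * z := by
      intro p hp hpE hp1 q hq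
      have hsub : ({1, a, b, a * b} : Finset Q).image (fun z => p * z) ⊆ fib (p * p) := by
        intro r hr
        obtain ⟨z, hz, rfl⟩ := Finset.mem_image.1 hr
        obtain ⟨hzT, hzE, hz2⟩ := hinV z hz
        refine (hmemfib _ _).2 ⟨⟨mul_mem hp hzT, mul_mem hpE hzE⟩, ?_⟩
        rw [mul_assoc, ← mul_assoc z, hVc z hzT hz2 p hp, mul_assoc p z z, hz2, mul_one]
      have hc : ({1, a, b, a * b} : Finset Q).image (fun z => p * z) = fib (p * p) := by
        refine Finset.eq_of_subset_of_card_le hsub ?_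
        rw [Finset.card_image_of_injective _ (mul_right_injective p), hVcard]
        rcases hsq p hp with e | e | e | e
        · exact absurd e hp1
        all_goals rw [e]; omega
      rw [← hc] at hq
      obtain ⟨z, hz, rfl⟩ := Finset.mem_image.1 hq
      exact ⟨z, hz, rfl⟩
    by_cases hxy : x * x = y * y
    · obtain ⟨z, hz, rfl⟩ := hcoset x hxT hxE hx1 y ((hmemfib _ _).2 ⟨⟨hyT, hyE⟩, hxy.symm⟩)
      obtain ⟨hzT, -, hz2⟩ := hinV z hz
      rw [mul_assoc x z x, hVc z hzT hz2 x hxT]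
    have hu := (hsq x hxT).resolve_left hx1
    have hw := (hsq y hyT).resolve_left hy1
    have hr := hsq (x * y) (mul_mem hxT hyT)
    have key : x * y * (x * y) = x * x * (y * y) := by
      refine X.third hu hw hxy hr ?_ ?_ ?_
      · intro e
        have h1 : y = x⁻¹ * (x * y) := (inv_mul_cancel_left x y).symm
        have hz := hVc _ (mul_mem hxT hyT) e x⁻¹ (inv_mem hxT)
        refine hxy ?_
        rw [h1, mul_assoc x⁻¹, ← mul_assoc (x * y) x⁻¹, hz, mul_assoc x⁻¹ (x * y), e, mul_one,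
          ← mul_inv_rev]
        rcases hu with h | h | h <;> rw [h] <;> symm <;>
          exact inv_eq_of_mul_eq_one_right (by first | exact X.ha.sq | exact X.hb.sq | exact (X.ha.mul X.hb).sq)
      · intro e
        obtain ⟨z, hz, he⟩ := hcoset x hxT hxE hx1 (x * y)
          ((hmemfib _ _).2 ⟨⟨mul_mem hxT hyT, mul_mem hxE hyE⟩, e⟩)
        exact hy1 (mul_left_cancel he ▸ (hinV z hz).2.2)
      · intro e
        obtain ⟨z, hz, he⟩ := hcoset y hyT hyE hy1 (x * y)
          ((hmemfib _ _).2 ⟨⟨mul_mem hxT hyT, mul_mem hxE hyE⟩, e⟩)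
        obtain ⟨hzT, -, hz2⟩ := hinV z hz
        rw [← hVc z hzT hz2 y hyT] at he
        exact hx1 (mul_right_cancel he ▸ hz2)
    refine (mul_left_cancel (a := x) (mul_right_cancel (b := y) ?_)).symm
    rw [← mul_assoc x y x, mul_assoc (x * y) x y, key]
    group
  · subst h6
    have hTle : (T : Subgroup Q) ≤ E := by
      refine inf_eq_left.1 (eq_of_le_of_card_ge inf_le_left ?_)
      rw [X.sixty.card, ← subgroupOf_map_subtype, ← hTE, card_map_of_injective E.subtype_injective, hi]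
      norm_num
    refine ⟨E, hEn, hTle, fun v hv hv1 x hx => ?_⟩
    have hTEsix : PiHomog3258.Local74.Sixty4 ↥(TE : Subgroup ↥E) :=
      sixty4_congr ((subgroupOfEquivOfLe hTle).symm.trans
        (MulEquiv.subgroupCongr hTE.symm)) X.sixty
    have hcenE : ∀ w (hw : Cen T w), Cen TE ⟨w, hTle hw.mem⟩ := fun w hw =>
      ⟨(hmemTE _).2 hw.mem, fun s hs => Subtype.ext (hw.comm s ((hmemTE s).1 hs)), Subtype.ext hw.sq⟩
    have hV : VHyp ↥E := by
      intro P R W hWP hWR hW hW4 z _ _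
      obtain ⟨q, -, hq⟩ := exists_conj_mem_sylow TE ⊤ (P : Subgroup ↥E) le_top P.isPGroup' le_top
      obtain ⟨r, -, hr⟩ := exists_conj_mem_sylow TE ⊤ (R : Subgroup ↥E) le_top R.isPGroup' le_top
      have hfour : ∀ s : ↥E, (∀ w ∈ W, s * w * s⁻¹ ∈ (TE : Subgroup ↥E)) →
          (∀ x : ↥E, ((x : Q) = a ∨ (x : Q) = b) → s⁻¹ * x * s ∈ W) := by
        intro s hs
        let f : ↥W → {y : Q // y ∈ ({1, a, b, a * b} : Finset Q)} := fun w =>
          ⟨((s * w * s⁻¹ : ↥E) : Q), by
            rw [← hone, hmemfib]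
            refine ⟨⟨(hmemTE _).1 (hs w w.2), SetLike.coe_mem _⟩, ?_⟩
            rw [← Subgroup.coe_mul, show s * (w : ↥E) * s⁻¹ * (s * w * s⁻¹) = s * ((w : ↥E) * w) * s⁻¹ by group,
              show (w : ↥E) * w = 1 from (pow_two _).symm.trans (hW.2 _ w.2)]
            simp⟩
        have hfi : Function.Injective f := fun w w' h => Subtype.ext (mul_left_cancel
          (mul_right_cancel (Subtype.ext ((congrArg Subtype.val h) :) :
            s * (w : ↥E) * s⁻¹ = s * w' * s⁻¹)))
        have hfs : Function.Surjective f := (hfi.bijective_of_nat_card_le (by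
          rw [hW4, Nat.card_eq_finsetCard, hVcard])).2
        intro x hx
        obtain ⟨w, hw⟩ := hfs ⟨(x : Q), by
          simp only [Finset.mem_insert, Finset.mem_singleton]
          tauto⟩
        have e : s * (w : ↥E) * s⁻¹ = x := Subtype.ext ((congrArg Subtype.val hw) :)
        rw [← e, show s⁻¹ * (s * (w : ↥E) * s⁻¹) * s = w by group]
        exact w.2
      -- `r q⁻¹` sends the four-group into `T`
      have hn : r * q⁻¹ ∈ normalizer ((TE : Subgroup ↥E) : Set ↥E) := by
        have hin : ∀ x : ↥E, ((x : Q) = a ∨ (x : Q) = b) →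
            ((r * q⁻¹ : ↥E) : Q) * x * ((r * q⁻¹ : ↥E) : Q)⁻¹ ∈ (T : Subgroup Q) := fun x hx => by
          have h1 := hr _ (hWR (hfour q (fun w hw => hq w (hWP hw)) x hx))
          rw [show r * (q⁻¹ * x * q) * r⁻¹ = r * q⁻¹ * x * (r * q⁻¹)⁻¹ by group] at h1
          exact (hmemTE _).1 h1
        have h2 := X.uniq _ (hin ⟨a, haE⟩ (Or.inl rfl)) (hin ⟨b, hbE⟩ (Or.inr rfl))
        refine mem_normalizer_of_conj_mem _ fun y hy => (hmemTE _).2 ?_
        simpa using (mem_normalizer_iff.1 h2 (y : Q)).1 ((hmemTE y).1 hy)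
      have hPq : q • P = TE := Sylow.ext (eq_of_le_of_card_ge (fun y hy => by
          have h := mem_smul_iff.1 hy
          have := hq _ h
          rwa [show q * (q⁻¹ * y * q) * q⁻¹ = y by group] at this)
        (by rw [Sylow.card_eq_multiplicity, Sylow.card_eq_multiplicity]))
      have hRr : r • R = TE := Sylow.ext (eq_of_le_of_card_ge (fun y hy => by
          have h := mem_smul_iff.1 hy
          have := hr _ h
          rwa [show r * (r⁻¹ * y * r) * r⁻¹ = y by group] at this)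
        (by rw [Sylow.card_eq_multiplicity, Sylow.card_eq_multiplicity]))
      have hfix := Sylow.smul_eq_iff_mem_normalizer.2 hn
      rw [← hPq, smul_smul, inv_mul_cancel_right, hPq, ← hRr] at hfix
      exact smul_left_cancel r hfix
    have hxE := hlt ↥E (lt_of_le_of_lt (Nat.le_of_dvd Nat.card_pos (card_subgroup_dvd_card E)) hQ)
      hEs TE hV hTEsix ⟨v, hTle hv.mem⟩ (hcenE v hv) (fun e => hv1 (congrArg Subtype.val e))
      (show (⟨x, hx.1⟩ : ↥E) ∈ centralizer _ from mem_centralizer_singleton_iff.2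
        (Subtype.ext (mem_centralizer_singleton_iff.1 hx.2)))
    refine mem_normalizer_of_conj_mem _ fun y hy => ?_
    exact (hmemTE _).1 ((mem_normalizer_iff.1 hxE ⟨y, hTle hy⟩).1 ((hmemTE _).2 hy))

end Tri

end Cfsg.Agent.Inter3185.U34
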