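import Cfsg.Agent.Lib.Inter3185.U34.Tools
import Cfsg.Agent.Lib.Walter.JRCore.Tools
import Cfsg.Agent.Lib.BenderOne.LocalTools
import Cfsg.Agent.Lib.Inv59.Basic
import Cfsg.Prelude.Def_Amalgam

/-!
# The cores of a subgroup of odd order (helper88)
-/

set_option autoImplicit false
set_option linter.style.haveILetI false
set_option linter.unusedSectionVars false

namespace Cfsg.Agent.Inter3185.U34

open Subgroup Cfsg.Agent.Lib Cfsg.Agent.Lib.Inv59.Basic
open scoped Pointwise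

universe u

variable {G : Type u} [Group G] [Finite G]

/-- The product of the cores for the primes other than `t`. -/
def Fp (t : ℕ) (J : Subgroup G) : Subgroup G :=
  ⨆ s : {s : ℕ // s.Prime ∧ s ≠ t}, Cfsg.pCoreOf (s : ℕ) J

/-- The centraliser in `J` of the cores for the primes other than `t`. -/
def Ct (t : ℕ) (J : Subgroup G) : Subgroup G := J ⊓ centralizer (Fp t J : Set G)

/-- The centre of the `s`-core. -/
def Zc (s : ℕ) (J : Subgroup G) : Subgroup G :=
  Cfsg.pCoreOf s J ⊓ centralizer (Cfsg.pCoreOf s J : Set G)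

theorem Zc_le (s : ℕ) (J : Subgroup G) : Zc s J ≤ Cfsg.pCoreOf s J := inf_le_left

theorem Fp_le (t : ℕ) (J : Subgroup G) : Fp t J ≤ J := iSup_le fun s => CharP.pCoreOf_le _ J

theorem le_Fp {t s : ℕ} (hs : s.Prime) (hst : s ≠ t) (J : Subgroup G) :
    Cfsg.pCoreOf s J ≤ Fp t J :=
  le_iSup (fun r : {r : ℕ // r.Prime ∧ r ≠ t} => Cfsg.pCoreOf (r : ℕ) J) ⟨s, hs, hst⟩

theorem Ct_le (t : ℕ) (J : Subgroup G) : Ct t J ≤ J := inf_le_left

theorem mem_Ct {t : ℕ} {J : Subgroup G} {x : G} :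
    x ∈ Ct t J ↔ x ∈ J ∧ ∀ s, s.Prime → s ≠ t → ∀ u ∈ Cfsg.pCoreOf s J, x * u = u * x := by
  constructor
  · exact fun h => ⟨h.1, fun s hs hst u hu => (mem_centralizer_iff.1 h.2 u (le_Fp hs hst J hu)).symm⟩
  · rintro ⟨h1, h2⟩
    refine ⟨h1, mem_centralizer_iff.2 fun u hu => ?_⟩
    have hle : Fp t J ≤ centralizer ({x} : Set G) := iSup_le fun s u hu =>
      mem_centralizer_singleton_iff.2 (h2 s s.2.1 s.2.2 u hu).symm
    exact mem_centralizer_singleton_iff.1 (hle hu)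

theorem le_Ct {t : ℕ} {J A : Subgroup G} (hA : A ≤ J)
    (h : ∀ s, s.Prime → s ≠ t → A ≤ centralizer (Cfsg.pCoreOf s J : Set G)) : A ≤ Ct t J :=
  fun x hx => mem_Ct.2 ⟨hA hx, fun s hs hst u hu => (mem_centralizer_iff.1 (h s hs hst hx) u hu).symm⟩

theorem normalizer_le_normalizer_Fp (t : ℕ) (J : Subgroup G) :
    normalizer (J : Set G) ≤ normalizer (Fp t J : Set G) := by
  intro g hg
  refine Subgroup.mem_normalizer_iff_map_conj_eq.2 ?_
  rw [Fp, Subgroup.map_iSup]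
  exact iSup_congr fun s => Subgroup.mem_normalizer_iff_map_conj_eq.1
    (Walter.JRCore.normalizer_le_normalizer_pCoreOf _ J hg)

theorem normalizer_le_normalizer_Ct (t : ℕ) (J : Subgroup G) :
    normalizer (J : Set G) ≤ normalizer (Ct t J : Set G) := by
  intro g hg
  refine mem_normalizer_of_conj_mem _ fun x hx => ⟨(mem_normalizer_iff.1 hg x).1 hx.1, ?_⟩
  refine mem_centralizer_iff.2 fun u hu => ?_
  have h1 : g⁻¹ * u * g ∈ Fp t J :=
    (mem_normalizer_iff''.1 (normalizer_le_normalizer_Fp t J hg) u).1 hu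
  calc u * (g * x * g⁻¹) = g * (g⁻¹ * u * g * x) * g⁻¹ := by group
    _ = g * (x * (g⁻¹ * u * g)) * g⁻¹ := by rw [mem_centralizer_iff.1 hx.2 _ h1]
    _ = g * x * g⁻¹ * u := by group

theorem normalizer_le_normalizer_Zc (s : ℕ) (J : Subgroup G) :
    normalizer (J : Set G) ≤ normalizer (Zc s J : Set G) := by
  intro g hg
  have hn := Walter.JRCore.normalizer_le_normalizer_pCoreOf s J hg
  refine mem_normalizer_of_conj_mem _ fun x hx => ⟨(mem_normalizer_iff.1 hn x).1 hx.1, ?_⟩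
  refine mem_centralizer_iff.2 fun u hu => ?_
  have h1 : g⁻¹ * u * g ∈ Cfsg.pCoreOf s J := (mem_normalizer_iff''.1 hn u).1 hu
  calc u * (g * x * g⁻¹) = g * (g⁻¹ * u * g * x) * g⁻¹ := by group
    _ = g * (x * (g⁻¹ * u * g)) * g⁻¹ := by rw [mem_centralizer_iff.1 hx.2 _ h1]
    _ = g * x * g⁻¹ * u := by group

/-- A non-trivial `p`-group normalised by a `p`-group has fixed points in a characteristic piece. -/
theorem inf_centralizer_ne_bot {p : ℕ} [Fact p.Prime] {P Q : Subgroup G} (hP : IsPGroup p ↥P)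
    (hQ : IsPGroup p ↥Q) (hQn : Q ≤ normalizer (P : Set G)) (hne : P ≠ ⊥) :
    P ⊓ centralizer (Q : Set G) ≠ ⊥ := by
  have hsup : IsPGroup p ↥(Q ⊔ P) := hQ.to_sup_of_normal_right' hP hQn
  haveI : (P.subgroupOf (Q ⊔ P)).Normal :=
    normal_subgroupOf_of_le_normalizer (sup_le hQn le_normalizer)
  have hne' : P.subgroupOf (Q ⊔ P) ≠ ⊥ := fun h => hne (by
    rw [← map_subgroupOf_eq_of_le (le_sup_right : P ≤ Q ⊔ P), h, Subgroup.map_bot])
  obtain ⟨z, hz, hz1⟩ := (Subgroup.bot_or_exists_ne_one _).resolve_left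
    (PGroups.normal_inf_center_ne_bot hsup (P.subgroupOf (Q ⊔ P)) hne')
  intro h
  refine hz1 (Subtype.ext (mem_bot.1 (h ▸ (show (z : G) ∈ P ⊓ centralizer (Q : Set G) from
    ⟨hz.1, mem_centralizer_iff.2 fun y hy => ?_⟩))))
  exact congrArg Subtype.val (mem_center_iff.1 hz.2 ⟨y, mem_sup_left hy⟩)

theorem Zc_ne_bot {s : ℕ} [Fact s.Prime] {J : Subgroup G} (h : Cfsg.pCoreOf s J ≠ ⊥) :
    Zc s J ≠ ⊥ :=
  inf_centralizer_ne_bot (CharP.isPGroup_pCoreOf s J) (CharP.isPGroup_pCoreOf s J) le_normalizer h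

/-- Mutually normalising groups of coprime prime power orders commute. -/
theorem le_centralizer_of_primes {p q : ℕ} [Fact p.Prime] [Fact q.Prime] (hpq : p ≠ q)
    {A B : Subgroup G} (hA : IsPGroup p ↥A) (hB : IsPGroup q ↥B)
    (hAB : A ≤ normalizer (B : Set G)) (hBA : B ≤ normalizer (A : Set G)) :
    A ≤ centralizer (B : Set G) := fun x hx => mem_centralizer_iff.2 fun y hy =>
  (commute_of_inf_eq_bot hx hy (hAB hx) (hBA hy)
    (disjoint_iff.1 (IsPGroup.disjoint_of_ne p q hpq A B hA hB))).symm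

/-- `x` fixing the commutator of coprime order with `y` centralises `y`. -/
theorem commute_of_fixed_comm {x y c : G} (h : x * y * x⁻¹ = c * y) (hc : x * c = c * x)
    (hcop : (orderOf x).Coprime (orderOf c)) : x * y = y * x := by
  have key : ∀ n : ℕ, x ^ n * y * (x ^ n)⁻¹ = c ^ n * y := by
    intro n
    induction n with
    | zero => simp
    | succ n ih =>
      calc x ^ (n + 1) * y * (x ^ (n + 1))⁻¹ = x * (x ^ n * y * (x ^ n)⁻¹) * x⁻¹ := by
            rw [pow_succ']; group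
        _ = x * c ^ n * x⁻¹ * (x * y * x⁻¹) := by rw [ih]; group
        _ = c ^ n * (c * y) := by
            rw [h, ((show Commute x c from hc).pow_right n).eq, mul_inv_cancel_right]
        _ = c ^ (n + 1) * y := by rw [pow_succ, mul_assoc]
  have h1 := key (orderOf x)
  rw [pow_orderOf_eq_one, one_mul, inv_one, mul_one, eq_comm, mul_eq_right] at h1
  have hc1 : c = 1 := orderOf_eq_one_iff.1
    (Nat.eq_one_of_dvd_coprimes hcop (orderOf_dvd_of_pow_eq_one h1) dvd_rfl)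
  rw [hc1, one_mul] at h
  exact mul_inv_eq_iff_eq_mul.1 h

theorem odd_prime_of_core {J : Subgroup G} (hJ : Odd (Nat.card J)) {s : ℕ} (hs : s.Prime)
    (h : Cfsg.pCoreOf s J ≠ ⊥) : s ≠ 2 := by
  haveI := Fact.mk hs
  obtain ⟨n, hn⟩ := IsPGroup.iff_card.1 (CharP.isPGroup_pCoreOf s J)
  have hn0 : n ≠ 0 := fun e => h ((Cfsg.pCoreOf s J).eq_bot_of_card_eq (by rw [hn, e, pow_zero]))
  exact BenderOne.LocalTools.ne_two_of_dvd hJ
    ((dvd_pow_self s hn0).trans (hn ▸ card_dvd_of_le (CharP.pCoreOf_le s J)))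

/-- A `p`-subgroup of `J` centralising all the cores lies in `O_p(J)`. -/
theorem le_core_of_centralizes {J A : Subgroup G} (hJ : Odd (Nat.card J)) {p : ℕ} [Fact p.Prime]
    (hA : IsPGroup p ↥A) (hAJ : A ≤ J)
    (h : ∀ s, s.Prime → A ≤ centralizer (Cfsg.pCoreOf s J : Set G)) : A ≤ Cfsg.pCoreOf p J := by
  intro x hx
  refine Walter.JRCore.mem_pCoreOf_of_centralizes (BenderOne.LocalTools.isSolvable_odd hJ) (hAJ hx) ?_
    fun r hr u hu => (mem_centralizer_iff.1 (h r hr hx) u hu).symm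
  obtain ⟨k, hk⟩ := hA ⟨x, hx⟩
  exact ⟨k, congrArg Subtype.val hk⟩

/-- Elements centralising all the cores lie in their product. -/
theorem mem_sup_of_centralizes {J : Subgroup G} (hJ : Odd (Nat.card J)) (t : ℕ) {c : G} (hc : c ∈ J)
    (h : ∀ s, s.Prime → ∀ u ∈ Cfsg.pCoreOf s J, c * u = u * c) :
    c ∈ Cfsg.pCoreOf t J ⊔ Fp t J := by
  haveI : Group.IsSolvable ↥J := BenderOne.LocalTools.isSolvable_odd hJ
  have h1 : (⟨c, hc⟩ : ↥J) ∈ Cfsg.fittingSubgroup ↥J := by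
    refine Cores.centralizer_fittingSubgroup_le ?_
    rw [Cores.fittingSubgroup_eq_iSup_pCore]
    have hle : (⨆ r : Nat.Primes, Cfsg.pCore (r : ℕ) ↥J) ≤ centralizer ({⟨c, hc⟩} : Set ↥J) :=
      iSup_le fun r u hu => mem_centralizer_singleton_iff.2 (Subtype.ext
        (h r r.2 _ (mem_map_of_mem _ hu)).symm)
    exact mem_centralizer_iff.2 fun u hu => mem_centralizer_singleton_iff.1 (hle hu)
  have h2 : c ∈ (Cfsg.fittingSubgroup ↥J).map J.subtype := ⟨_, h1, rfl⟩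
  rw [Cores.fittingSubgroup_eq_iSup_pCore, Subgroup.map_iSup] at h2
  refine (show (⨆ r : Nat.Primes, (Cfsg.pCore (r : ℕ) ↥J).map J.subtype) ≤ _ from iSup_le fun r => ?_) h2
  by_cases hr : (r : ℕ) = t
  · rw [hr]
    exact le_sup_left
  · exact (le_Fp r.2 hr J).trans le_sup_right

theorem Fp_coprime {t : ℕ} [ht : Fact t.Prime] {J : Subgroup G} {v : G} (hv : v ∈ Fp t J) :
    (orderOf v).Coprime t := by
  have h : Fp t J ≤ Balance.coreIn t J := iSup_le fun s => by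
    haveI := Fact.mk s.2.1
    refine Balance.le_coreIn_of_not_dvd (CharP.pCoreOf_le _ J) (CharP.le_normalizer_pCoreOf _ J) ?_
    obtain ⟨k, hk⟩ := IsPGroup.iff_card.1 (CharP.isPGroup_pCoreOf (s : ℕ) J)
    rw [hk]
    exact fun h => s.2.2 ((Nat.prime_dvd_prime_iff_eq ht.out s.2.1).1 (ht.out.dvd_of_dvd_pow h)).symm
  exact (Balance.coreIn_coprime J).coprime_dvd_left (orderOf_dvd_natCard _ (h hv))

/-- A normal `t`-subgroup lies in a subgroup of Sylow order. -/
theorem core_le_sylowIn {t : ℕ} [Fact t.Prime] {J P : Subgroup G}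
    (hP : BenderOne20.SylowIn t P (Ct t J)) : Cfsg.pCoreOf t J ≤ P := by
  have hT : Cfsg.pCoreOf t J ≤ Ct t J := le_Ct (CharP.pCoreOf_le t J) fun s hs hst => by
    haveI := Fact.mk hs
    exact le_centralizer_of_primes hst.symm (CharP.isPGroup_pCoreOf t J) (CharP.isPGroup_pCoreOf s J)
      ((CharP.pCoreOf_le t J).trans (CharP.le_normalizer_pCoreOf s J))
      ((CharP.pCoreOf_le s J).trans (CharP.le_normalizer_pCoreOf t J))
  obtain ⟨T, hT'⟩ := BenderOne.LocalTools.exists_sylow hP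
  intro x hx
  rw [← hT']
  refine ⟨⟨x, hT hx⟩, ?_, rfl⟩
  haveI : ((Cfsg.pCoreOf t J).subgroupOf (Ct t J)).Normal :=
    normal_subgroupOf_of_le_normalizer ((Ct_le t J).trans (CharP.le_normalizer_pCoreOf t J))
  have hTp : IsPGroup t ↥((Cfsg.pCoreOf t J).subgroupOf (Ct t J)) :=
    (CharP.isPGroup_pCoreOf t J).comap_subtype
  exact ((T.3 (hTp.to_sup_of_normal_left T.2) le_sup_right) ▸
    (le_sup_left : (Cfsg.pCoreOf t J).subgroupOf (Ct t J) ≤ _ ⊔ (T : Subgroup ↥(Ct t J)))) hx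

/-- The normaliser of `J` normalises `ZJ` of a Sylow subgroup of `Ct t J`. -/
theorem normalizer_le_normalizer_zj {t : ℕ} [Fact t.Prime] {J P : Subgroup G}
    (hJ : Odd (Nat.card J)) (ht2 : t ≠ 2) (hP : BenderOne20.SylowIn t P (Ct t J)) :
    normalizer (J : Set G) ≤ normalizer (Cfsg.centerThompsonAOf P : Set G) := by
  obtain ⟨T, rfl⟩ := BenderOne.LocalTools.exists_sylow hP
  refine (normalizer_le_normalizer_Ct t J).trans (Walter.JRCore.normalizer_le_normalizer_zj ht2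
    (hJ.of_dvd_nat (card_dvd_of_le (Ct_le t J))) (fun q hq hqt u hu k hk => ?_) T)
  haveI := Fact.mk hq
  refine (mem_Ct.1 hk).2 q hq hqt u (CharP.le_pCoreOf (CharP.isPGroup_pCoreOf q _)
    ((CharP.pCoreOf_le q _).trans (Ct_le t J)) ?_ hu)
  exact (le_normalizer.trans (normalizer_le_normalizer_Ct t J)).trans
    (Walter.JRCore.normalizer_le_normalizer_pCoreOf q _)

/-- A coprime element centralising `O_t(J)` centralises `P`, if it commutes modulo the product of
the cores. -/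
theorem centralizes_sylowIn {t : ℕ} [Fact t.Prime] {J P : Subgroup G} (hJ : Odd (Nat.card J))
    (hP : BenderOne20.SylowIn t P (Ct t J)) (hPt : IsPGroup t ↥P) {x : G} (hx : x ∈ J)
    (hxT : ∀ u ∈ Cfsg.pCoreOf t J, x * u = u * x) (hxo : (orderOf x).Coprime t) :
    ∀ p ∈ P, x * p = p * x := by
  intro p hp
  have hpC : p ∈ Ct t J := hP.1 hp
  set c := x * p * x⁻¹ * p⁻¹ with hc
  have hnC : ∀ y ∈ J, ∀ z ∈ Ct t J, y * z * y⁻¹ ∈ Ct t J := fun y hy z hz =>
    (mem_normalizer_iff.1 ((normalizer_le_normalizer_Ct t J) (le_normalizer hy)) z).1 hz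
  have hcC : c ∈ Ct t J := mul_mem (hnC x hx p hpC) (inv_mem hpC)
  have hnT : ∀ u ∈ Cfsg.pCoreOf t J, p⁻¹ * u * p ∈ Cfsg.pCoreOf t J := fun u hu =>
    (mem_normalizer_iff''.1 (CharP.le_normalizer_pCoreOf t J hpC.1) u).1 hu
  have hcall : ∀ s, s.Prime → ∀ u ∈ Cfsg.pCoreOf s J, c * u = u * c := by
    intro s hs u hu
    by_cases hst : s = t
    · subst hst
      have h1 : x⁻¹ * u * x = u := by rw [mul_assoc, ← hxT u hu, inv_mul_cancel_left]
      have h2 := hxT _ (hnT u hu)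
      calc c * u = x * p * x⁻¹ * (p⁻¹ * u * p) * p⁻¹ := by rw [hc]; group
        _ = x * p * (x⁻¹ * (p⁻¹ * u * p) * x) * x⁻¹ * p⁻¹ := by group
        _ = x * p * (p⁻¹ * u * p) * x⁻¹ * p⁻¹ := by
            rw [show x⁻¹ * (p⁻¹ * u * p) * x = p⁻¹ * u * p by rw [mul_assoc, ← h2, inv_mul_cancel_left]]
        _ = x * u * (p * x⁻¹ * p⁻¹) := by group
        _ = u * c := by rw [hxT u hu, hc]; group
    · exact (mem_Ct.1 hcC).2 s hs hst u hu
  have hcm := mem_sup_of_centralizes hJ t (Ct_le t J hcC) hcall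
  rw [← SetLike.mem_coe, coe_mul_of_left_le_normalizer_right _ _
    (((CharP.pCoreOf_le t J).trans le_normalizer).trans (normalizer_le_normalizer_Fp t J))] at hcm
  obtain ⟨u, hu, v, hv, huv⟩ := hcm
  have hTP := core_le_sylowIn hP
  -- the `t'`-part of `c` vanishes
  have hvC : ∀ y ∈ Ct t J, y * v = v * y := fun y hy => (mem_centralizer_iff.1 hy.2 v hv).symm
  have hxp : x * p * x⁻¹ = v * (u * p) := by
    rw [← mul_assoc, ← hvC u (hP.1 (hTP hu)), show u * v = c from huv, hc]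
    group
  obtain ⟨k, hk⟩ := IsPGroup.iff_orderOf.1 hPt ⟨p, hp⟩
  obtain ⟨l, hl⟩ := IsPGroup.iff_orderOf.1 hPt ⟨u * p, mul_mem (hTP hu) hp⟩
  rw [Subgroup.orderOf_mk] at hk hl
  have hv1 : v = 1 := by
    refine orderOf_eq_one_iff.1 (Nat.eq_one_of_dvd_coprimes ((Fp_coprime hv).pow_right (k + l))
      dvd_rfl (orderOf_dvd_of_pow_eq_one ?_))
    have h1 : (x * p * x⁻¹) ^ (t ^ (k + l)) = 1 := by
      rw [conj_pow, pow_add, pow_mul, ← hk, pow_orderOf_eq_one, one_pow]; group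
    have h2 : (u * p) ^ (t ^ (k + l)) = 1 := by
      rw [pow_add, mul_comm, pow_mul, ← hl, pow_orderOf_eq_one, one_pow]
    rw [hxp, ((show Commute (u * p) v from hvC _ (hP.1 (mul_mem (hTP hu) hp))).symm).mul_pow, h2,
      mul_one] at h1
    exact h1
  rw [hv1, one_mul] at hxp
  refine commute_of_fixed_comm (c := u) hxp (hxT u hu) ?_
  obtain ⟨m, hm⟩ := IsPGroup.iff_orderOf.1 (CharP.isPGroup_pCoreOf t J) ⟨u, hu⟩
  rw [Subgroup.orderOf_mk] at hm
  rw [hm]
  exact hxo.pow_right m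

end Cfsg.Agent.Inter3185.U34
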