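import Cfsg.Agent.Lib.Inter3185.U34.Theta
import Cfsg.Agent.Lib.Inter3185.U34.Fit
import Cfsg.Agent.Lib.Balance.Factorization
import Cfsg.Agent.Lib.Balance.Permute
import Cfsg.Agent.Lib.Balance.CoprimeCore

/-!
# Maximal subgroups containing `C(a)`: tools of the Bender method (helper88)
-/

set_option autoImplicit false
set_option linter.style.haveILetI false
set_option linter.unusedSectionVars false

namespace Cfsg.Agent.Inter3185.U34

open Subgroup Cfsg.Agent.Lib Cfsg.Agent.Lib.Inv59.Basic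
open Cfsg.Agent.Lib.BenderOne20 (SylowIn)

universe u

variable {G : Type u} [Group G] [Finite G]

/-- The commutator of `A` with `a`. -/
abbrev Yc (A : Subgroup G) (a : G) : Subgroup G := ⁅A, zpowers a⁆

theorem Yc_le {A : Subgroup G} {a : G} (h : a ∈ normalizer (A : Set G)) : Yc A a ≤ A :=
  Coprime.commutator_le_of_le_normalizer (zpowers_le.2 h)

theorem Yc_ne_bot {A : Subgroup G} {a : G} (h : ¬ A ≤ centralizer ({a} : Set G)) : Yc A a ≠ ⊥ :=
  fun e => h fun x hx => mem_centralizer_singleton_iff.2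
    (mem_centralizer_iff.1 (commutator_eq_bot_iff_le_centralizer.1 e hx) a (mem_zpowers a)).symm

theorem le_normalizer_Yc {A C : Subgroup G} {a : G} (hC : C ≤ normalizer (A : Set G))
    (hCa : C ≤ centralizer ({a} : Set G)) : C ≤ normalizer (Yc A a : Set G) := by
  refine Balance.le_normalizer_commutator hC fun c hc => ?_
  refine centralizer_le_normalizer _ (mem_centralizer_iff.2 ?_)
  rintro y ⟨i, rfl⟩
  exact ((show Commute c a from mem_centralizer_singleton_iff.1 (hCa hc)).zpow_right i).eq.symm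

theorem self_le_normalizer_Yc (A : Subgroup G) (a : G) : A ≤ normalizer (Yc A a : Set G) :=
  Coprime.left_le_normalizer_commutator A (zpowers a)

/-- If an involution inverts `W`, its commutators with a group acting on `W` centralise `W`. -/
theorem Yc_le_centralizer {A W : Subgroup G} {a : G} (ha : a * a = 1)
    (hAW : A ≤ normalizer (W : Set G)) (hW : ∀ w ∈ W, a * w * a⁻¹ = w⁻¹) :
    Yc A a ≤ centralizer (W : Set G) := by
  refine commutator_le.2 fun y hy x hx => mem_centralizer_iff.2 fun w hw => ?_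
  rcases mem_zpowers_two ha hx with rfl | hxa
  · simp
  rw [hxa]
  have h1 : y⁻¹ * w * y ∈ W := (mem_normalizer_iff''.1 (hAW hy) w).1 hw
  have h2 : a * (y⁻¹ * w⁻¹ * y) * a⁻¹ = y⁻¹ * w * y := by
    rw [show a * (y⁻¹ * w⁻¹ * y) * a⁻¹ = (a * (y⁻¹ * w * y) * a⁻¹)⁻¹ by group, hW _ h1, inv_inv]
  have h3 : a⁻¹ * w * a = w⁻¹ := by
    have h4 := hW _ (inv_mem hw)
    rw [inv_inv] at h4
    calc a⁻¹ * w * a = a⁻¹ * (a * w⁻¹ * a⁻¹) * a := by rw [h4]
      _ = w⁻¹ := by group
  rw [commutatorElement_def]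
  symm
  calc y * a * y⁻¹ * a⁻¹ * w = y * a * y⁻¹ * (a⁻¹ * w * a) * a⁻¹ := by group
    _ = y * a * (y⁻¹ * w⁻¹ * y) * a⁻¹ * a * y⁻¹ * a⁻¹ := by rw [h3]; group
    _ = y * (y⁻¹ * w * y) * a * y⁻¹ * a⁻¹ := by
        rw [show y * a * (y⁻¹ * w⁻¹ * y) * a⁻¹ = y * (a * (y⁻¹ * w⁻¹ * y) * a⁻¹) by group, h2]
    _ = w * (y * a * y⁻¹ * a⁻¹) := by group

/-- If a subgroup acting on the fixed points of `a` is moved by `a`, the commutators act trivially. -/
theorem Yc_le_centralizer_fixed {A W : Subgroup G} {a : G}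
    (hAW : A ≤ normalizer (W : Set G)) (hW : W ≤ centralizer ({a} : Set G)) :
    Yc A a ≤ centralizer (W : Set G) := by
  refine commutator_le.2 fun y hy x hx => mem_centralizer_iff.2 fun w hw => ?_
  obtain ⟨i, rfl⟩ := hx
  have hc : ∀ z ∈ W, Commute (a ^ i) z := fun z hz =>
    ((show Commute z a from mem_centralizer_singleton_iff.1 (hW hz)).zpow_right i).symm
  have h1 := (hc _ ((mem_normalizer_iff''.1 (hAW hy) w).1 hw)).eq
  have h2 := (hc w hw).inv_left.eq
  rw [commutatorElement_def]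
  calc w * (y * a ^ i * y⁻¹ * (a ^ i)⁻¹) = y * (y⁻¹ * w * y * a ^ i) * y⁻¹ * (a ^ i)⁻¹ := by group
    _ = y * (a ^ i * (y⁻¹ * w * y)) * y⁻¹ * (a ^ i)⁻¹ := by rw [h1]
    _ = y * a ^ i * y⁻¹ * (w * (a ^ i)⁻¹) := by group
    _ = y * a ^ i * y⁻¹ * ((a ^ i)⁻¹ * w) := by rw [h2]
    _ = y * a ^ i * y⁻¹ * (a ^ i)⁻¹ * w := by group

theorem inter_centralizer_le {Q J : Subgroup G} (h : Q ≤ J) (B : Subgroup G) :
    Q ⊓ centralizer (B : Set G) ≤ J := inf_le_left.trans h

variable [IsSimpleGroup G]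

/-- The environment of the Bender method. -/
structure Env (S : Sylow 2 G) (a b g : G) : Prop where
  ctx : Ctx S a b g
  th : ∀ H : Subgroup G, H ≠ ⊤ → (S : Subgroup G) ≤ H → ∀ W : Subgroup G, Odd (Nat.card W) → W ≤ H →
    (S : Subgroup G) ≤ normalizer (W : Set G) → W ≤ theta S H
  noSE : ∀ H : Subgroup G, centralizer ({a} : Set G) ≤ H → g ∈ H → H = ⊤

/-- A maximal subgroup containing `C(a)`. -/
structure Cand (a : G) (M : Subgroup G) : Prop where
  ne : M ≠ ⊤
  le : centralizer ({a} : Set G) ≤ M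
  max : ∀ H : Subgroup G, M ≤ H → H ≠ ⊤ → H = M

/-- The core of `M`. -/
abbrev M1 (M : Subgroup G) : Subgroup G := Balance.coreIn 2 M

/-- What `J` needs to contain. -/
structure Big (S : Sylow 2 G) (M J : Subgroup G) : Prop where
  odd : Odd (Nat.card J)
  inv : (S : Subgroup G) ≤ normalizer (J : Set G)
  zc : ∀ s, s.Prime → Zc s (M1 M) ≤ J
  cc : ∀ s, s.Prime →
    Cfsg.pCoreOf s (M1 M) ⊓ centralizer ((Cfsg.pCoreOf s (M1 M) ⊓ J : Subgroup G) : Set G) ≤ J

/-- At least two primes in the Fitting subgroup of the core. -/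
def Two (M : Subgroup G) : Prop :=
  ∀ p : ℕ, ∃ s, s.Prime ∧ s ≠ p ∧ Cfsg.pCoreOf s (M1 M) ≠ ⊥

namespace Env

variable {S : Sylow 2 G} {a b g : G} (E : Env S a b g)
include E

theorem S_le {M : Subgroup G} (hM : Cand a M) : (S : Subgroup G) ≤ M :=
  (E.ctx.S_le_C E.ctx.ha).trans hM.le

theorem centralizer_ne_top : centralizer ({a} : Set G) ≠ ⊤ := fun e => E.ctx.g_ne a E.ctx.ha E.ctx.a_ne
  (by rw [mem_centralizer_singleton_iff.1 (e ▸ mem_top g : g ∈ centralizer ({a} : Set G)),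
    mul_inv_cancel_right])

theorem not_odd_top : ¬ Odd (Nat.card G) := fun h => E.ctx.a_ne
  (sq_eq_one_of_odd (P := (⊤ : Subgroup G)) (by rwa [card_top]) (mem_top a) E.ctx.ha.sq)

theorem normalizer_ne_top {B : Subgroup G} (hB : B ≠ ⊥) (hodd : Odd (Nat.card B)) :
    normalizer (B : Set G) ≠ ⊤ := fun e => by
  haveI : B.Normal := normalizer_eq_top_iff.1 e
  rcases Subgroup.Normal.eq_bot_or_eq_top (inferInstance : B.Normal) with h | h
  · exact hB h
  · exact E.not_odd_top (by rwa [h, card_top] at hodd)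

theorem exists_cand {H : Subgroup G} (hH : H ≠ ⊤) (hle : centralizer ({a} : Set G) ≤ H) :
    ∃ M, Cand a M ∧ H ≤ M := by
  obtain ⟨M, hHM, hM⟩ := Finite.exists_le_maximal (p := fun K : Subgroup G => K ≠ ⊤) (a := H) hH
  exact ⟨M, ⟨hM.1, hle.trans hHM, fun K h1 h2 => le_antisymm (hM.2 h2 h1) h1⟩, hHM⟩

theorem isolated {H : Subgroup G} (hH : H ≠ ⊤) (hle : centralizer ({a} : Set G) ≤ H) :
    ∀ v, Cen S v → ∀ h ∈ H, h * v * h⁻¹ ∈ (S : Subgroup G) → h * v * h⁻¹ = v := by
  rcases E.ctx.isolated_or_cycle ((E.ctx.S_le_C E.ctx.ha).trans hle) with h | ⟨n, hn, hna, -⟩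
  · exact h
  · refine absurd (E.noSE H hle ?_) hH
    have hc : n⁻¹ * g ∈ centralizer ({a} : Set G) := mem_centralizer_singleton_iff.2 (by
      calc n⁻¹ * g * a = n⁻¹ * (g * a * g⁻¹) * g := by group
        _ = n⁻¹ * (n * a * n⁻¹) * g := by rw [E.ctx.g_a, hna]
        _ = a * (n⁻¹ * g) := by group)
    have := mul_mem hn.2 (hle hc)
    rwa [mul_inv_cancel_left] at this

/-- `H = O(H) C(a)`. -/
theorem dec {H : Subgroup G} (hH : H ≠ ⊤) (hle : centralizer ({a} : Set G) ≤ H) {x : G} (hx : x ∈ H) :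
    ∃ k ∈ Balance.coreIn 2 H, k * x ∈ centralizer ({a} : Set G) := by
  have hSH := (E.ctx.S_le_C E.ctx.ha).trans hle
  set aH : ↥H := ⟨a, hSH E.ctx.ha.mem⟩
  obtain ⟨N, hN, hNodd, hcomm⟩ := ZStar.StronglyClosed.involutionThm ↥H (S.subtype hSH) aH
    (orderOf_eq_prime (by rw [pow_two]; exact Subtype.ext E.ctx.ha.sq)
      fun e => E.ctx.a_ne (congrArg Subtype.val e))
    E.ctx.ha.mem fun h hh => Subtype.ext (E.isolated hH hle a E.ctx.ha h h.2 hh)
  haveI := hN
  have hcore : N.map H.subtype ≤ Balance.coreIn 2 H :=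
    Subgroup.map_mono (Cores.le_pPrimeCore (Nat.coprime_two_right.2 hNodd))
  have hodd : Odd (Nat.card ↥(Balance.coreIn 2 H)) := Walter.JRCore.odd_coreIn H
  obtain ⟨k, hk, hkc⟩ := Coprime.exists_fixed_mul (A := zpowers a) (N := Balance.coreIn 2 H)
    (zpowers_le.2 (Balance.le_normalizer_coreIn H (hSH E.ctx.ha.mem)))
    (coprime_two E.ctx.ha.sq hodd) (Or.inr (BenderOne.LocalTools.isSolvable_odd hodd)) (k := x)
    fun y hy => by
      rcases mem_zpowers_two E.ctx.ha.sq hy with rfl | rfl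
      · simp
      · exact hcore ⟨_, hcomm ⟨x, hx⟩, rfl⟩
  exact ⟨k, hk, mem_centralizer_singleton_iff.2 (mem_centralizer_iff.1 hkc a (mem_zpowers a)).symm⟩

theorem K_le {H : Subgroup G} (hH : H ≠ ⊤) (hle : centralizer ({a} : Set G) ≤ H) :
    OC a ≤ Balance.coreIn 2 H := by
  set N := Balance.coreIn 2 H ⊔ OC a with hN
  have hKH : OC a ≤ H := (map_subtype_le _).trans hle
  have hCn : centralizer ({a} : Set G) ≤ normalizer (N : Set G) := fun c hc =>
    normalizer_inf_normalizer_le_normalizer_sup _ _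
      ⟨Balance.le_normalizer_coreIn H (hle hc), le_normalizer_oddCore_map _ hc⟩
  refine le_sup_right.trans (Balance.le_coreIn (N := N) (sup_le (Balance.coreIn_le H) hKH) ?_
    (Nat.coprime_two_right.2 (odd_sup (Walter.JRCore.odd_coreIn H) (card_oddCore_map _)
      (hKH.trans (Balance.le_normalizer_coreIn H)))))
  intro x hx
  obtain ⟨k, hk, hkx⟩ := E.dec hH hle hx
  have := mul_mem (inv_mem (le_normalizer (mem_sup_left hk : k ∈ N))) (hCn hkx)
  rwa [inv_mul_cancel_left] at this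

theorem Dc_le {H : Subgroup G} (hH : H ≠ ⊤) (hle : centralizer ({a} : Set G) ≤ H) :
    Dc S ≤ Balance.coreIn 2 H :=
  (E.ctx.Dc_le_OC E.ctx.ha E.ctx.a_ne).trans (E.K_le hH hle)

/-- An invariant subgroup of odd order of `M` lies in its core. -/
theorem th_le {M : Subgroup G} (hM : Cand a M) {W : Subgroup G} (hW : Odd (Nat.card W)) (hWM : W ≤ M)
    (hSW : (S : Subgroup G) ≤ normalizer (W : Set G)) : W ≤ M1 M :=
  (E.th M hM.ne (E.S_le hM) W hW hWM hSW).trans
    (sup_le le_rfl (inf_le_left.trans (E.Dc_le hM.ne hM.le)))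

/-- Subgroups normalised by `M` have normaliser `M`. -/
theorem normalizer_eq {M : Subgroup G} (hM : Cand a M) {B : Subgroup G} (hB : B ≠ ⊥)
    (hodd : Odd (Nat.card B)) (hn : M ≤ normalizer (B : Set G)) : normalizer (B : Set G) = M :=
  hM.max _ hn (E.normalizer_ne_top hB hodd)

omit E in
theorem M_le_op {M : Subgroup G} (s : ℕ) : M ≤ normalizer (Cfsg.pCoreOf s (M1 M) : Set G) :=
  (Balance.le_normalizer_coreIn M).trans (Walter.JRCore.normalizer_le_normalizer_pCoreOf s _)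

omit E in
theorem M_le_Zc {M : Subgroup G} (s : ℕ) : M ≤ normalizer (Zc s (M1 M) : Set G) :=
  (Balance.le_normalizer_coreIn M).trans (normalizer_le_normalizer_Zc s _)

omit E in
theorem odd_le_M1 {M X : Subgroup G} (h : X ≤ M1 M) : Odd (Nat.card X) :=
  (Walter.JRCore.odd_coreIn M).of_dvd_nat (card_dvd_of_le h)

omit E in
theorem op_le {M : Subgroup G} (s : ℕ) : Cfsg.pCoreOf s (M1 M) ≤ M :=
  (CharP.pCoreOf_le s _).trans (Balance.coreIn_le M)

theorem centralizer_Zc_le {M : Subgroup G} (hM : Cand a M) {s : ℕ} [Fact s.Prime]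
    (h : Cfsg.pCoreOf s (M1 M) ≠ ⊥) : centralizer (Zc s (M1 M) : Set G) ≤ M :=
  (centralizer_le_normalizer _).trans (E.normalizer_eq hM (Zc_ne_bot h)
    (odd_le_M1 ((Zc_le s _).trans (CharP.pCoreOf_le s _))) (M_le_Zc s)).le

theorem exists_P {M : Subgroup G} (hM : Cand a M) (t : ℕ) [Fact t.Prime] :
    ∃ P : Subgroup G, SylowIn t P (Ct t (M1 M)) ∧ IsPGroup t ↥P ∧
      (S : Subgroup G) ≤ normalizer (P : Set G) := by
  have hn : (S : Subgroup G) ≤ normalizer (Ct t (M1 M) : Set G) :=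
    ((E.S_le hM).trans (Balance.le_normalizer_coreIn M)).trans (normalizer_le_normalizer_Ct t _)
  have hodd : Odd (Nat.card ↥(Ct t (M1 M))) := odd_le_M1 (Ct_le t _)
  obtain ⟨P, -, hP⟩ := Coprime.exists_invariant_sylow_ge hn (coprime_card hodd)
    (Or.inr (BenderOne.LocalTools.isSolvable_odd hodd)) t ⊥ bot_le IsPGroup.of_bot
    (fun s _ => mem_normalizer_of_conj_mem _ fun y hy => by rw [mem_bot.1 hy, mul_one, mul_inv_cancel]; exact one_mem _)
  exact ⟨_, ⟨map_subtype_le _, Coprime.card_sylow_map P⟩, P.2.map _, hP⟩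

theorem normalizer_zj_eq {M : Subgroup G} (hM : Cand a M) {t : ℕ} [Fact t.Prime]
    (ht : Cfsg.pCoreOf t (M1 M) ≠ ⊥) {P : Subgroup G} (hP : SylowIn t P (Ct t (M1 M)))
    (hPt : IsPGroup t ↥P) : normalizer (Cfsg.centerThompsonAOf P : Set G) = M := by
  have ht2 := odd_prime_of_core (Walter.JRCore.odd_coreIn M) Fact.out ht
  exact E.normalizer_eq hM
    (BenderOne.LocalTools.zj_ne_bot hPt fun e => ht (le_bot_iff.1 (e ▸ core_le_sylowIn hP)))
    (odd_le_M1 ((ZJ.centerThompsonAOf_le P).trans (hP.1.trans (Ct_le t _))))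
    ((Balance.le_normalizer_coreIn M).trans
      (normalizer_le_normalizer_zj (Walter.JRCore.odd_coreIn M) ht2 hP))

/-- A subgroup sharing the cores lies in `M`. -/
theorem absorb {M J : Subgroup G} (hM : Cand a M) (hJ : Big S M J) {t : ℕ} [Fact t.Prime]
    (ht : Cfsg.pCoreOf t (M1 M) ≠ ⊥) {P : Subgroup G} (hP : SylowIn t P (Ct t (M1 M)))
    (hPt : IsPGroup t ↥P) (hPS : (S : Subgroup G) ≤ normalizer (P : Set G)) (hPJ : P ≤ J)
    (hops : ∀ s, s.Prime → Cfsg.pCoreOf s J ≤ M1 M) : J ≤ M1 M := by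
  set T := Cfsg.pCoreOf t (M1 M) with hT
  have hTP : T ≤ P := core_le_sylowIn hP
  have hTJ : T ≤ J := hTP.trans hPJ
  have hJn : ∀ s, J ≤ normalizer (Cfsg.pCoreOf s J : Set G) := fun s => CharP.le_normalizer_pCoreOf s J
  have hPC : P ≤ Ct t J := le_Ct hPJ fun s hs hst x hx => mem_centralizer_iff.2 fun y hy => by
    haveI := Fact.mk hs
    refine (centralizes_sylowIn (Walter.JRCore.odd_coreIn M) hP hPt (hops s hs hy) (fun u hu => ?_)
      (coprime_of_pgroup hst (CharP.isPGroup_pCoreOf s J) y hy) x hx)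
    exact (mem_centralizer_iff.1 (le_centralizer_of_primes hst (CharP.isPGroup_pCoreOf s J)
      (CharP.isPGroup_pCoreOf t (M1 M)) ((hops s hs).trans (CharP.le_normalizer_pCoreOf t _))
      (hTJ.trans (hJn s)) hy) u hu).symm
  have hCtS : (S : Subgroup G) ≤ normalizer (Ct t J : Set G) :=
    hJ.inv.trans (normalizer_le_normalizer_Ct t J)
  have hCodd : Odd (Nat.card ↥(Ct t J)) := hJ.odd.of_dvd_nat (card_dvd_of_le (Ct_le t J))
  obtain ⟨Q, hPQ, hQS⟩ := Coprime.exists_invariant_sylow_ge hCtS (coprime_card hCodd)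
    (Or.inr (BenderOne.LocalTools.isSolvable_odd hCodd)) t P hPC hPt hPS
  set P' : Subgroup G := (Q : Subgroup ↥(Ct t J)).map (Ct t J).subtype with hP'
  have hP'C : P' ≤ Ct t J := map_subtype_le _
  have hP't : IsPGroup t ↥P' := Q.2.map _
  set N : Subgroup G := normalizer (P : Set G) ⊓ P' with hN
  have hNM : N ≤ M1 M := by
    refine E.th_le hM (hCodd.of_dvd_nat (card_dvd_of_le (inf_le_right.trans hP'C))) ?_
      (Coprime.le_normalizer_inf (hPS.trans (le_normalizer.trans le_rfl)) hQS)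
    intro x hx
    rw [← E.normalizer_zj_eq hM ht hP hPt]
    exact ZJ.normalizer_le_normalizer_centerThompsonA P hx.1
  have hNC : N ≤ Ct t (M1 M) := by
    refine le_Ct hNM fun s hs hst => ?_
    haveI := Fact.mk hs
    set Q' := Cfsg.pCoreOf s (M1 M) with hQ'
    have hQn : M1 M ≤ normalizer (Q' : Set G) := CharP.le_normalizer_pCoreOf s _
    have hQp := CharP.isPGroup_pCoreOf s (M1 M)
    have hNt : IsPGroup t ↥N := hP't.to_le inf_le_right
    have hfix : ∀ z ∈ N, ∀ x ∈ Q' ⊓ J, z * x = x * z := by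
      intro z hz x hx
      have hzC : z ∈ Ct t J := hP'C hz.2
      set y := z * x * z⁻¹ * x⁻¹ with hy
      have hyQ : y ∈ Q' := mul_mem ((mem_normalizer_iff.1 (hQn (hNM hz)) x).1 hx.1) (inv_mem hx.1)
      have hyC : y ∈ Ct t J := by
        have h1 : x * z⁻¹ * x⁻¹ ∈ Ct t J :=
          (mem_normalizer_iff.1 (normalizer_le_normalizer_Ct t J (le_normalizer hx.2)) _).1 (inv_mem hzC)
        have := mul_mem hzC h1
        rwa [show z * (x * z⁻¹ * x⁻¹) = y by rw [hy]; group] at this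
      have hyo : y ∈ Cfsg.pCoreOf s J := by
        refine Walter.JRCore.mem_pCoreOf_of_centralizes (BenderOne.LocalTools.isSolvable_odd hJ.odd)
          (Ct_le t J hyC) ?_ fun r hr u hu => ?_
        · obtain ⟨k, hk⟩ := hQp ⟨y, hyQ⟩
          exact ⟨k, congrArg Subtype.val hk⟩
        by_cases hrt : r = t
        · subst hrt
          exact commute_of_inf_eq_bot hyQ hu (hJn r (Ct_le r J hyC)) (hQn (hops r hr hu))
            (disjoint_iff.1 (IsPGroup.disjoint_of_ne s r hst Q' _ hQp (CharP.isPGroup_pCoreOf r J)))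
        · exact (mem_Ct.1 hyC).2 r hr hrt u hu
      refine commute_of_fixed_comm (c := y) (by rw [hy]; group) ((mem_Ct.1 hzC).2 s hs hst y hyo) ?_
      obtain ⟨k, hk⟩ := IsPGroup.iff_orderOf.1 hQp ⟨y, hyQ⟩
      rw [Subgroup.orderOf_mk] at hk
      rw [hk]
      exact (coprime_of_pgroup hst.symm hNt z hz).pow_right k
    refine axb hQp (hQp.to_le inf_le_left) (inf_le_left.trans le_normalizer) (hNM.trans hQn)
      (coprime_of_pgroup hst.symm hNt) (fun z hz => mem_centralizer_iff.2 fun x hx => (hfix z hz x hx).symm)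
      fun z hz => mem_centralizer_iff.2 fun x hx => (hfix z hz x ⟨hx.1, hJ.cc s hs hx⟩).symm
  -- `P` is a Sylow subgroup of `Ct t (M1 M)`
  have hPN : P ≤ N := le_inf le_normalizer hPQ
  have hNP : N = P := by
    refine (eq_of_le_of_card_ge hPN ?_).symm
    obtain ⟨n, hn⟩ := IsPGroup.iff_card.1 (hP't.to_le (inf_le_right : N ≤ P'))
    rw [hP.2, hn]
    exact Nat.pow_le_pow_right (Fact.out : t.Prime).pos
      (((Fact.out : t.Prime).pow_dvd_iff_le_factorization Nat.card_pos.ne').1 (hn ▸ card_dvd_of_le hNC))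
  have hPP : P = P' := by
    by_contra hne
    exact Balance.lt_normalizer_inf hP't hPQ hne hNP.le
  have hPJ' : SylowIn t P (Ct t J) := ⟨hPC, by rw [hPP]; exact Coprime.card_sylow_map Q⟩
  refine E.th_le hM hJ.odd ?_ hJ.inv
  rw [← E.normalizer_zj_eq hM ht hP hPt]
  exact le_normalizer.trans (normalizer_le_normalizer_zj hJ.odd
    (odd_prime_of_core (Walter.JRCore.odd_coreIn M) Fact.out ht) hPJ')

/-- The cores of a big subgroup for the primes of `F(M1)` lie in `M1`. -/
theorem core_le_of_mem {M J : Subgroup G} (hM : Cand a M) (hJ : Big S M J) (h2 : Two M) {p : ℕ}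
    [Fact p.Prime] (hp : Cfsg.pCoreOf p (M1 M) ≠ ⊥) : Cfsg.pCoreOf p J ≤ M1 M := by
  obtain ⟨s, hs, hsp, hs0⟩ := h2 p
  haveI := Fact.mk hs
  set W := Cfsg.pCoreOf p J with hW
  set A := Zc s (M1 M) with hA
  set B := Zc p (M1 M) with hB
  have hJW : J ≤ normalizer (W : Set G) := CharP.le_normalizer_pCoreOf p J
  have hSW : (S : Subgroup G) ≤ normalizer (W : Set G) :=
    hJ.inv.trans (Walter.JRCore.normalizer_le_normalizer_pCoreOf p J)
  have hWodd : Odd (Nat.card W) := hJ.odd.of_dvd_nat (card_dvd_of_le (CharP.pCoreOf_le p J))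
  have hAp : IsPGroup s ↥A := (CharP.isPGroup_pCoreOf s _).to_le (Zc_le s _)
  have hBp : IsPGroup p ↥B := (CharP.isPGroup_pCoreOf p _).to_le (Zc_le p _)
  have hAB : A ≤ centralizer (B : Set G) := le_centralizer_of_primes hsp hAp hBp
    (((Zc_le s _).trans (op_le s)).trans (M_le_Zc p)) (((Zc_le p _).trans (op_le p)).trans (M_le_Zc s))
  set W' := W ⊓ centralizer (B : Set G) with hW'
  have hW'M : W' ≤ M1 M := by
    refine E.th_le hM (hWodd.of_dvd_nat (card_dvd_of_le inf_le_left))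
      (inf_le_right.trans (E.centralizer_Zc_le hM hp)) ?_
    exact Coprime.le_normalizer_inf hSW
      (((E.S_le hM).trans (M_le_Zc p)).trans (Balance.normalizer_le_normalizer_centralizer B))
  have hAW' : A ≤ centralizer (W' : Set G) := le_centralizer_of_primes hsp hAp
    ((CharP.isPGroup_pCoreOf p J).to_le inf_le_left)
    (Coprime.le_normalizer_inf ((hJ.zc s hs).trans hJW)
      ((hAB.trans (centralizer_le_normalizer _)).trans (Balance.normalizer_le_normalizer_centralizer B)))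
    ((hW'M.trans (Balance.coreIn_le M)).trans (M_le_Zc s))
  have hAW : A ≤ centralizer (W : Set G) := axb (CharP.isPGroup_pCoreOf p J) hBp
    ((hJ.zc p Fact.out).trans hJW) ((hJ.zc s hs).trans hJW) (coprime_of_pgroup hsp hAp) hAB hAW'
  refine E.th_le hM hWodd ?_ hSW
  exact (Subgroup.le_centralizer_iff.1 hAW).trans (E.centralizer_Zc_le hM hs0)

/-- The cores of a big subgroup for other primes meet `M` trivially and are inverted by `a`. -/
theorem core_extra {M J : Subgroup G} (hM : Cand a M) (hJ : Big S M J) {p : ℕ} [Fact p.Prime]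
    (hp : Cfsg.pCoreOf p (M1 M) = ⊥) :
    Cfsg.pCoreOf p J ⊓ M = ⊥ ∧ ∀ w ∈ Cfsg.pCoreOf p J, a * w * a⁻¹ = w⁻¹ := by
  set W := Cfsg.pCoreOf p J with hW
  have hJW : J ≤ normalizer (W : Set G) := CharP.le_normalizer_pCoreOf p J
  have hSW : (S : Subgroup G) ≤ normalizer (W : Set G) :=
    hJ.inv.trans (Walter.JRCore.normalizer_le_normalizer_pCoreOf p J)
  have hWodd : Odd (Nat.card W) := hJ.odd.of_dvd_nat (card_dvd_of_le (CharP.pCoreOf_le p J))
  set W' := W ⊓ M with hW'
  have hW'1 : W' ≤ M1 M := E.th_le hM (hWodd.of_dvd_nat (card_dvd_of_le inf_le_left)) inf_le_right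
    (Coprime.le_normalizer_inf hSW ((E.S_le hM).trans le_normalizer))
  have hW'p : IsPGroup p ↥W' := (CharP.isPGroup_pCoreOf p J).to_le inf_le_left
  have h1 : W' = ⊥ := by
    refine le_bot_iff.1 (hp ▸ le_core_of_centralizes (Walter.JRCore.odd_coreIn M) hW'p hW'1 fun s hs => ?_)
    haveI := Fact.mk hs
    by_cases hsp : s = p
    · subst hsp
      rw [hp]
      exact fun x _ => mem_centralizer_iff.2 fun y hy => by
        rw [mem_bot.1 hy, one_mul, mul_one]
    set Q := Cfsg.pCoreOf s (M1 M) with hQ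
    set B := Q ⊓ J with hB
    have hQp := CharP.isPGroup_pCoreOf s (M1 M)
    have hW'Q : W' ≤ normalizer (Q : Set G) := inf_le_right.trans (M_le_op s)
    have hW'J : W' ≤ J := inf_le_left.trans (CharP.pCoreOf_le p J)
    have hBW : B ≤ normalizer (W' : Set G) := Coprime.le_normalizer_inf (inf_le_right.trans hJW)
      ((inf_le_left.trans (op_le s)).trans le_normalizer)
    have hW'B : W' ≤ centralizer (B : Set G) :=
      le_centralizer_of_primes (Ne.symm hsp) hW'p (hQp.to_le inf_le_left)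
        (Coprime.le_normalizer_inf hW'Q (hW'J.trans le_normalizer)) hBW
    refine axb hQp (hQp.to_le inf_le_left) (inf_le_left.trans le_normalizer) hW'Q
      (coprime_of_pgroup (Ne.symm hsp) hW'p) hW'B fun z hz => mem_centralizer_iff.2 fun x hx =>
        mem_centralizer_iff.1 (hW'B hz) x ⟨hx.1, hJ.cc s hs hx⟩
  refine ⟨h1, inverts E.ctx.ha.sq (hSW E.ctx.ha.mem) fun x hx hax => ?_⟩
  exact mem_bot.1 (h1 ▸ (⟨hx, hM.le (mem_centralizer_singleton_iff.2 hax.symm)⟩ : x ∈ W'))

/-- An extra core is centralised by commutators with `a`; so it dies if one of them has its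
normaliser inside `M`. -/
theorem core_extra_bot {M J : Subgroup G} (hM : Cand a M) (hJ : Big S M J) {p : ℕ} [Fact p.Prime]
    (hp : Cfsg.pCoreOf p (M1 M) = ⊥) {A : Subgroup G} (hA : A ≤ J)
    (hN : normalizer (Yc A a : Set G) ≤ M) : Cfsg.pCoreOf p J = ⊥ := by
  obtain ⟨h1, h2⟩ := E.core_extra hM hJ hp
  rw [← h1]
  refine le_antisymm (le_inf le_rfl ?_) inf_le_left
  exact ((Subgroup.le_centralizer_iff.1 (Yc_le_centralizer E.ctx.ha.sq
    (hA.trans (CharP.le_normalizer_pCoreOf p J)) h2)).trans (centralizer_le_normalizer _)).trans hN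

end Env

end Cfsg.Agent.Inter3185.U34
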