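import Cfsg.Agent.Lib.Inter3185.Strong
import Cfsg.Agent.Lib.Inter3185.U34.Tools
import Cfsg.Agent.Lib.PiHomog3258.Local74.Type64
import Cfsg.Agent.Lib.OddOrder.FeitThompson
import Cfsg.Agent.Lib.Balance.Basic

/-!
# A Sylow 2-subgroup of type `U₃(4)` under `VHyp`: the setting (helper88)
-/

set_option autoImplicit false
set_option linter.style.haveILetI false
set_option linter.unusedSectionVars false

namespace Cfsg.Agent.Inter3185.U34

open Subgroup Cfsg.Agent.Lib Cfsg.Agent.Lib.Inv59.Basic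
open scoped Pointwise

universe u

variable {G : Type u} [Group G] [Finite G]

/-- The odd core of `C(S)`. -/
abbrev Dc (S : Sylow 2 G) : Subgroup G :=
  (Cfsg.oddCore ↥(centralizer ((S : Subgroup G) : Set G))).map
    (centralizer ((S : Subgroup G) : Set G)).subtype

theorem card_oddCore_map (H : Subgroup G) : Odd (Nat.card ↥((Cfsg.oddCore ↥H).map H.subtype)) := by
  rw [card_map_of_injective H.subtype_injective]
  exact ZStar.Elements.oddCore_odd

theorem le_normalizer_oddCore_map (H : Subgroup G) :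
    H ≤ normalizer (((Cfsg.oddCore ↥H).map H.subtype : Subgroup G) : Set G) :=
  Balance.le_normalizer_coreIn (p := 2) H

theorem le_oddCore_map {H N : Subgroup G} (hNH : N ≤ H) (hn : H ≤ normalizer (N : Set G))
    (hN : Odd (Nat.card N)) : N ≤ (Cfsg.oddCore ↥H).map H.subtype :=
  Balance.le_coreIn (p := 2) hNH hn (Nat.coprime_two_right.2 hN)

theorem orderOf_odd_OC {v x : G} (hx : x ∈ OC v) : Odd (orderOf x) :=
  orderOf_odd (card_oddCore_map _) hx

theorem eq_one_of_odd {S : Sylow 2 G} {W : Subgroup G} (hW : Odd (Nat.card W)) {x : G} (hx : x ∈ W)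
    (hxS : x ∈ (S : Subgroup G)) : x = 1 := by
  obtain ⟨k, hk⟩ := IsPGroup.iff_orderOf.1 S.2 ⟨x, hxS⟩
  rw [Subgroup.orderOf_mk] at hk
  refine orderOf_eq_one_iff.1 (Nat.eq_one_of_dvd_coprimes ((Nat.coprime_two_left.2
    (orderOf_odd hW hx)).pow_left k) (dvd_of_eq hk) dvd_rfl)

theorem odd_sup {X Y : Subgroup G} (hX : Odd (Nat.card X)) (hY : Odd (Nat.card Y))
    (h : Y ≤ normalizer (X : Set G)) : Odd (Nat.card ↥(X ⊔ Y)) := by
  have key : ∀ Z, X ≤ Z → Y ≤ Z → Y ⊔ X = Z → Z ≤ normalizer (X : Set G) →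
      Nat.card Z ∣ Nat.card Y * Nat.card X := by
    intro Z hXZ hYZ hZ hn
    haveI : (X.subgroupOf Z).Normal := normal_subgroupOf_of_le_normalizer hn
    have h1 := Cores.card_sup_dvd_mul (Y.subgroupOf Z) (X.subgroupOf Z)
    have h2 : Nat.card ↥((Y.subgroupOf Z) ⊔ (X.subgroupOf Z)) = Nat.card Z := by
      rw [← subgroupOf_sup hYZ hXZ, Nat.card_congr (subgroupOfEquivOfLe (le_of_eq hZ)).toEquiv]
      exact congrArg (fun K : Subgroup G => Nat.card ↥K) hZ
    rw [h2, Nat.card_congr (subgroupOfEquivOfLe hYZ).toEquiv,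
      Nat.card_congr (subgroupOfEquivOfLe hXZ).toEquiv] at h1
    exact h1
  exact (hY.mul hX).of_dvd_nat
    (key (X ⊔ Y) le_sup_left le_sup_right (sup_comm Y X) (sup_le le_normalizer h))

theorem coprime_card {S : Sylow 2 G} {W : Subgroup G} (hW : Odd (Nat.card W)) :
    (Nat.card ↥(S : Subgroup G)).Coprime (Nat.card W) := by
  obtain ⟨k, hk⟩ := S.2.exists_card_eq
  rw [hk]
  exact (Nat.coprime_two_left.2 hW).pow_left k

/-- Elements of odd order centralising `S` lie in `Dc S`. -/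
theorem mem_Dc {S : Sylow 2 G} {x : G} (hx : ∀ s ∈ (S : Subgroup G), s * x = x * s)
    (ho : Odd (orderOf x)) : x ∈ Dc S := by
  haveI : Fact (Nat.Prime 2) := ⟨Nat.prime_two⟩
  set C := centralizer ((S : Subgroup G) : Set G) with hC
  set P : Subgroup ↥C := (S : Subgroup G).subgroupOf C with hP
  have hPc : ∀ p ∈ P, ∀ c : ↥C, c * p = p * c := fun p hp c =>
    Subtype.ext ((mem_centralizer_iff.1 c.2) (p : G) hp).symm
  haveI : P.Normal := ⟨fun p hp c => by rw [hPc p hp c, mul_inv_cancel_right]; exact hp⟩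
  have hcop : (Nat.card P).Coprime P.index := by
    obtain ⟨k, hk⟩ := IsPGroup.iff_card.1
      (show IsPGroup 2 ↥P from S.isPGroup'.comap_of_injective C.subtype C.subtype_injective)
    rw [hk]
    refine Nat.Coprime.pow_left k (Nat.prime_two.coprime_iff_not_dvd.2 fun h2 => ?_)
    obtain ⟨y, hy⟩ := exists_prime_orderOf_dvd_card' 2 (G := ↥C ⧸ P) (by rwa [← index_eq_card])
    obtain ⟨c, rfl⟩ := QuotientGroup.mk'_surjective P y
    obtain ⟨m, n, hn, hcn⟩ := Nat.exists_eq_two_pow_mul_odd (orderOf_pos c).ne'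
    have hc2 : (c : G) ^ n ∈ (S : Subgroup G) := by
      refine mem_sylow_of_normalizer S m ?_ (pow_mem (centralizer_le_normalizer _ c.2) n)
      rw [← pow_mul, ← SubmonoidClass.coe_pow, mul_comm, ← hcn, pow_orderOf_eq_one]; rfl
    have h1 : QuotientGroup.mk' P c ^ n = 1 := by
      rw [← map_pow]
      exact (QuotientGroup.eq_one_iff _).2 (show ((c ^ n : ↥C) : G) ∈ _ by simpa using hc2)
    have := orderOf_dvd_of_pow_eq_one h1
    rw [hy] at this
    exact Nat.not_even_iff_odd.2 hn (even_iff_two_dvd.2 this)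
  obtain ⟨O, hO⟩ := Subgroup.exists_right_complement'_of_coprime hcop
  haveI : O.Normal := ⟨fun o ho c => by
    obtain ⟨⟨p, o'⟩, he⟩ := hO.2 c
    change (p : ↥C) * (o' : ↥C) = c at he
    rw [← he, show (p : ↥C) * o' * o * ((p : ↥C) * o')⁻¹ = (p : ↥C) * (o' * o * (o' : ↥C)⁻¹) * (p : ↥C)⁻¹ by group,
      ← hPc p p.2 (o' * o * (o' : ↥C)⁻¹), mul_inv_cancel_right]
    exact mul_mem (mul_mem o'.2 ho) (inv_mem o'.2)⟩
  have hOodd : Odd (Nat.card O) := by
    rw [← hO.symm.index_eq_card]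
    rw [Nat.odd_iff, ← Nat.two_dvd_ne_zero]
    intro h2
    obtain ⟨k, hk⟩ := S.2.exists_card_eq
    rcases k with _ | k
    · -- a trivial Sylow subgroup: the group has odd order
      have hdvd : 2 ∣ Nat.card G := (h2.trans (index_dvd_card P)).trans (card_subgroup_dvd_card C)
      obtain ⟨y, hy⟩ := exists_prime_orderOf_dvd_card' 2 hdvd
      obtain ⟨T, hT⟩ := (IsPGroup.of_card (p := 2) (n := 1)
        (show Nat.card ↥(zpowers y) = 2 ^ 1 by rw [Nat.card_zpowers, hy, pow_one])).exists_le_sylow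
      have := card_le_of_le hT
      rw [Nat.card_zpowers, hy, Nat.card_congr (Sylow.equiv T S).toEquiv, hk] at this
      omega
    · have h2P : 2 ∣ Nat.card P := by
        haveI : Nontrivial ↥(S : Subgroup G) :=
          Finite.one_lt_card_iff_nontrivial.1 (by rw [hk]; exact Nat.one_lt_two_pow (by omega))
        haveI := S.isPGroup'.center_nontrivial
        obtain ⟨z, hz⟩ := exists_ne (1 : Subgroup.center ↥(S : Subgroup G))
        have hzP : (⟨((z : ↥(S : Subgroup G)) : G), mem_centralizer_iff.2 fun y hy =>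
            congrArg Subtype.val (mem_center_iff.1 z.2 ⟨y, hy⟩)⟩ : ↥C) ∈ P := (z : ↥(S : Subgroup G)).2
        have hPne : P ≠ ⊥ := fun e => by
          rw [e, mem_bot] at hzP
          exact hz (Subtype.ext (Subtype.ext ((congrArg Subtype.val hzP) :)))
        haveI := (nontrivial_iff_ne_bot P).2 hPne
        obtain ⟨n, hn, hn'⟩ := (show IsPGroup 2 ↥P from
          S.isPGroup'.comap_of_injective C.subtype C.subtype_injective).nontrivial_iff_card.1 inferInstance
        exact hn' ▸ dvd_pow_self 2 hn.ne'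
      exact Nat.not_prime_one ((Nat.eq_one_of_dvd_coprimes hcop h2P h2) ▸ Nat.prime_two)
  obtain ⟨⟨p, o⟩, he⟩ := hO.2 ⟨x, mem_centralizer_iff.2 hx⟩
  change (p : ↥C) * (o : ↥C) = ⟨x, _⟩ at he
  have hp : (p : ↥C) = 1 := by
    have h1 : ((p : ↥C)) ^ (orderOf x * orderOf (o : ↥C)) = 1 := by
      rw [show (p : ↥C) = ⟨x, mem_centralizer_iff.2 hx⟩ * ((o : ↥C))⁻¹ by rw [← he, mul_inv_cancel_right]]
      have hcm : Commute (⟨x, mem_centralizer_iff.2 hx⟩ : ↥C) ((o : ↥C))⁻¹ := by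
        rw [← he]
        exact ((show Commute (p : ↥C) (o : ↥C) from (hPc p p.2 o).symm).inv_right).mul_left
          ((Commute.refl (o : ↥C)).inv_right)
      rw [hcm.mul_pow, inv_pow, pow_mul, show (⟨x, mem_centralizer_iff.2 hx⟩ : ↥C) ^ orderOf x = 1 from
        Subtype.ext (by simp [pow_orderOf_eq_one]), one_pow, one_mul, mul_comm, pow_mul,
        pow_orderOf_eq_one, one_pow, inv_one]
    refine orderOf_eq_one_iff.1 (Nat.eq_one_of_dvd_coprimes ?_ (orderOf_dvd_natCard P p.2)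
      (orderOf_dvd_of_pow_eq_one h1))
    obtain ⟨k, hk⟩ := IsPGroup.iff_card.1
      (show IsPGroup 2 ↥P from S.isPGroup'.comap_of_injective C.subtype C.subtype_injective)
    rw [hk]
    exact (Nat.coprime_two_left.2 (Odd.mul ho (hOodd.of_dvd_nat (orderOf_dvd_natCard O o.2)))).pow_left k
  rw [hp, one_mul] at he
  exact ⟨⟨x, mem_centralizer_iff.2 hx⟩, ZStar.Elements.le_oddCore hOodd (he ▸ o.2), rfl⟩

theorem Dc_comm {S : Sylow 2 G} {x : G} (hx : x ∈ Dc S) : ∀ s ∈ (S : Subgroup G), s * x = x * s :=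
  fun s hs => mem_centralizer_iff.1 ((map_subtype_le _ : Dc S ≤ _) hx) s hs

theorem Dc_odd (S : Sylow 2 G) : Odd (Nat.card ↥(Dc S)) := card_oddCore_map _

variable [IsSimpleGroup G]

/-- The setting. -/
structure Ctx (S : Sylow 2 G) (a b g : G) : Prop where
  na : ¬ IsMulCommutative G
  vhyp : VHyp G
  sixty : PiHomog3258.Local74.Sixty4 ↥(S : Subgroup G)
  ha : Cen S a
  hb : Cen S b
  a_ne : a ≠ 1
  b_ne : b ≠ 1
  b_ne_a : b ≠ a
  four : ∀ x ∈ (S : Subgroup G), x * x = 1 → x = 1 ∨ x = a ∨ x = b ∨ x = a * b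
  split : ∀ v, Cen S v → v ≠ 1 →
    centralizer ({v} : Set G) ≤ OC v ⊔ (Nrm S ⊓ centralizer ({v} : Set G))
  g_mem : g ∈ Nrm S
  g_three : ∃ n, orderOf g = 3 ^ n
  g_a : g * a * g⁻¹ = b
  g_b : g * b * g⁻¹ = a * b

theorem Sixty4.not_comm {S : Sylow 2 G} (D : PiHomog3258.Local74.Sixty4 ↥(S : Subgroup G)) :
    ∃ x y : ↥(S : Subgroup G), x * y ≠ y * x := by
  by_contra h
  push Not at h
  have h1 : center ↥(S : Subgroup G) = ⊤ := eq_top_iff.2 fun x _ => mem_center_iff.2 fun y => h y x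
  have h2 := D.card_center
  rw [h1, card_top, D.card] at h2
  omega

/-- An element normalising `S` and squaring into a centraliser of a central element centralises it. -/
theorem commute_of_sq {S : Sylow 2 G} {n v : G} (hn : n ∈ Nrm S) (hv : Cen S v)
    (h : n * n * v = v * (n * n)) : n * v = v * n := by
  haveI : Fact (Nat.Prime 2) := ⟨Nat.prime_two⟩
  let SN : Sylow 2 ↥(Nrm S) := S.subtype le_normalizer
  haveI : (SN : Subgroup ↥(Nrm S)).Normal := normal_in_normalizer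
  obtain ⟨k, hk⟩ : Odd (SN : Subgroup ↥(Nrm S)).index := Nat.odd_iff.2 (Nat.two_dvd_ne_zero.1 SN.not_dvd_index)
  have hj : n ^ (2 * k + 1) ∈ (S : Subgroup G) := hk ▸ Subgroup.pow_index_mem (SN : Subgroup ↥(Nrm S)) ⟨n, hn⟩
  have h1 : Commute (n ^ (2 * k + 1)) v := hv.comm _ hj
  have h2 : Commute ((n * n) ^ k) v := (show Commute (n * n) v from h).pow_left k
  have h3 : Commute n v := by
    have h4 : n = ((n * n) ^ k)⁻¹ * n ^ (2 * k + 1) := by
      rw [← pow_two, ← pow_mul, pow_succ, inv_mul_cancel_left]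
    rw [h4]
    exact h2.inv_left.mul_left h1
  exact h3.eq

namespace Ctx

variable {S : Sylow 2 G} {a b g : G} (X : Ctx S a b g)
include X

theorem base : Base S := ⟨X.na, X.vhyp, Sixty4.not_comm X.sixty⟩

theorem hc : Cen S (a * b) := X.ha.mul X.hb

theorem inv_a : a⁻¹ = a := inv_eq_of_mul_eq_one_right X.ha.sq
theorem inv_b : b⁻¹ = b := inv_eq_of_mul_eq_one_right X.hb.sq

theorem ab_comm : a * b = b * a := X.hb.comm a X.ha.mem

theorem c_ne : a * b ≠ 1 := fun h => X.b_ne_a ((eq_inv_of_mul_eq_one_right h).trans X.inv_a)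

theorem g_c : g * (a * b) * g⁻¹ = a := by
  rw [show g * (a * b) * g⁻¹ = g * a * g⁻¹ * (g * b * g⁻¹) by group, X.g_a, X.g_b, X.ab_comm,
    ← mul_assoc, X.hb.sq, one_mul]

theorem g_ne : ∀ v, Cen S v → v ≠ 1 → g * v * g⁻¹ ≠ v := by
  intro v hv hv1
  rcases X.four v hv.mem hv.sq with rfl | rfl | rfl | rfl
  · exact absurd rfl hv1
  · rw [X.g_a]; exact X.b_ne_a
  · rw [X.g_b]; exact fun e => X.a_ne (mul_eq_right.1 e)
  · rw [X.g_c]; exact fun e => X.b_ne (left_eq_mul.1 e)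

theorem mem_C {v x : G} : x ∈ centralizer ({v} : Set G) ↔ x * v = v * x := mem_centralizer_singleton_iff

theorem S_le_C {v : G} (hv : Cen S v) : (S : Subgroup G) ≤ centralizer ({v} : Set G) :=
  fun s hs => mem_centralizer_singleton_iff.2 (hv.comm s hs)

theorem Nrm_fix {n : G} (hn : n ∈ Nrm S) (hna : n * a = a * n) : n * b = b * n := by
  have hm : Cen S (n * b * n⁻¹) := X.hb.map hn
  refine commute_of_sq hn X.hb ?_
  have key : n * (n * b * n⁻¹) * n⁻¹ = b := by
    rcases X.four _ hm.mem hm.sq with h | h | h | h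
    · exact absurd (conj_eq_one_iff.1 h) X.b_ne
    · refine absurd ?_ X.b_ne_a
      have h1 : n * b * n⁻¹ = n * a * n⁻¹ := by rw [h, hna, mul_inv_cancel_right]
      exact mul_left_cancel (mul_right_cancel h1)
    · rw [h, h]
    · rw [h, show n * (a * b) * n⁻¹ = n * a * n⁻¹ * (n * b * n⁻¹) by group, h, hna, mul_inv_cancel_right,
        ← mul_assoc, X.ha.sq, one_mul]
  calc n * n * b = n * (n * b * n⁻¹) * n⁻¹ * (n * n) := by group
    _ = b * (n * n) := by rw [key]

theorem Dc_le_Nrm : Dc S ≤ Nrm S :=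
  (map_subtype_le _).trans (centralizer_le_normalizer _)

/-- An odd subgroup of `N(S)` normalised by `S` centralises `S`. -/
theorem le_Dc {W : Subgroup G} (hW : Odd (Nat.card W)) (hS : (S : Subgroup G) ≤ normalizer (W : Set G))
    (h : W ≤ Nrm S) : W ≤ Dc S := by
  intro w hw
  refine mem_Dc (fun s hs => ?_) (orderOf_odd hW hw)
  refine (commute_of_inf_eq_bot (X := W) (Y := (S : Subgroup G)) hw hs (h hw) (hS hs) ?_).symm
  exact eq_bot_iff.2 fun x hx => mem_bot.2 (eq_one_of_odd hW hx.1 hx.2)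

theorem fixed_two {W : Subgroup G} (hW : Odd (Nat.card W))
    (hS : (S : Subgroup G) ≤ normalizer (W : Set G)) {x : G} (hx : x ∈ W) (hxa : a * x = x * a)
    (hxb : b * x = x * b) : x ∈ Dc S := by
  set W' := W ⊓ centralizer ({a} : Set G) ⊓ centralizer ({b} : Set G)
  have hxW : x ∈ W' := ⟨⟨hx, mem_centralizer_singleton_iff.2 hxa.symm⟩,
    mem_centralizer_singleton_iff.2 hxb.symm⟩
  refine X.le_Dc (W := W') (hW.of_dvd_nat (card_dvd_of_le (inf_le_left.trans inf_le_left))) ?_ ?_ hxW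
  · intro s hs
    refine mem_normalizer_of_conj_mem _ fun y hy => ⟨⟨(mem_normalizer_iff.1 (hS hs) y).1 hy.1.1, ?_⟩, ?_⟩
    · exact mul_mem (mul_mem (X.S_le_C X.ha hs) hy.1.2) (Subgroup.inv_mem _ (X.S_le_C X.ha hs))
    · exact mul_mem (mul_mem (X.S_le_C X.hb hs) hy.2) (Subgroup.inv_mem _ (X.S_le_C X.hb hs))
  · intro y hy
    exact X.base.centralizer_pair X.ha X.a_ne X.hb.mem X.hb.sq X.b_ne X.b_ne_a
      (mem_centralizer_singleton_iff.1 hy.2) (mem_centralizer_singleton_iff.1 hy.1.2)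

theorem OC_le_C (v : G) : OC v ≤ centralizer ({v} : Set G) := map_subtype_le _

theorem OC_conj {v x k : G} (hx : x * v = v * x) (hk : k ∈ OC v) : x * k * x⁻¹ ∈ OC v :=
  (mem_normalizer_iff.1 (le_normalizer_oddCore_map _ (mem_centralizer_singleton_iff.2 hx)) k).1 hk

/-- `C(v) = O(C(v)) (N(S) ∩ C(v))`. -/
theorem exists_split {v x : G} (hv : Cen S v) (hv1 : v ≠ 1) (hx : x * v = v * x) :
    ∃ k ∈ OC v, ∃ n ∈ Nrm S ⊓ centralizer ({v} : Set G), x = k * n := by
  have hle := X.split v hv hv1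
  have hn : Nrm S ⊓ centralizer ({v} : Set G) ≤ normalizer (OC v : Set G) :=
    inf_le_right.trans (le_normalizer_oddCore_map _)
  have h1 := hle (mem_centralizer_singleton_iff.2 hx)
  rw [← SetLike.mem_coe, coe_mul_of_right_le_normalizer_left _ _ hn] at h1
  obtain ⟨k, hk, n, hn', e⟩ := h1
  exact ⟨k, hk, n, hn', e.symm⟩

theorem Nrm_le_normalizer_Dc : Nrm S ≤ normalizer (Dc S : Set G) := fun n hn => by
  refine mem_normalizer_of_conj_mem _ fun d hd => mem_Dc (fun s hs => ?_) ?_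
  · have h1 := Dc_comm hd (n⁻¹ * s * n) ((mem_normalizer_iff''.1 hn s).1 hs)
    calc s * (n * d * n⁻¹) = n * (n⁻¹ * s * n * d) * n⁻¹ := by group
      _ = n * (d * (n⁻¹ * s * n)) * n⁻¹ := by rw [h1]
      _ = n * d * n⁻¹ * s := by group
  · rw [show orderOf (n * d * n⁻¹) = orderOf (MulAut.conj n d) from rfl, MulEquiv.orderOf_eq]
    exact orderOf_odd (Dc_odd S) hd

theorem Dc_le_OC {v : G} (hv : Cen S v) (hv1 : v ≠ 1) : Dc S ≤ OC v := by
  have hDC : Dc S ≤ centralizer ({v} : Set G) := fun d hd =>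
    mem_centralizer_singleton_iff.2 (Dc_comm hd v hv.mem).symm
  refine le_sup_right.trans (le_oddCore_map (N := OC v ⊔ Dc S) (sup_le (map_subtype_le _) hDC) ?_
    (odd_sup (card_oddCore_map _) (Dc_odd S) (hDC.trans (le_normalizer_oddCore_map _))))
  intro x hx
  obtain ⟨k, hk, n, hn, rfl⟩ := X.exists_split hv hv1 (mem_centralizer_singleton_iff.1 hx)
  refine mul_mem (le_normalizer (mem_sup_left hk)) (normalizer_inf_normalizer_le_normalizer_sup _ _
    ⟨le_normalizer_oddCore_map _ hn.2, X.Nrm_le_normalizer_Dc hn.1⟩)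

/-- An odd subgroup of `C(v)` normalised by `S` lies in `O(C(v))`. -/
theorem le_OC {v : G} (hv : Cen S v) (hv1 : v ≠ 1) {W : Subgroup G} (hW : Odd (Nat.card W))
    (hS : (S : Subgroup G) ≤ normalizer (W : Set G)) (hWC : W ≤ centralizer ({v} : Set G)) :
    W ≤ OC v := by
  intro x hx
  obtain ⟨k, hk, n, hn, rfl⟩ := X.exists_split hv hv1 (mem_centralizer_singleton_iff.1 (hWC hx))
  refine mul_mem hk (X.Dc_le_OC hv hv1 ?_)
  set U := OC v ⊔ W
  have hWn : W ≤ normalizer (OC v : Set G) := hWC.trans (le_normalizer_oddCore_map _)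
  have hU : Odd (Nat.card ↥U) := odd_sup (card_oddCore_map _) hW hWn
  have hnU : n ∈ U ⊓ Nrm S := ⟨by
    have := mul_mem (inv_mem (mem_sup_left hk : k ∈ U)) (mem_sup_right hx : k * n ∈ U)
    rwa [inv_mul_cancel_left] at this, hn.1⟩
  refine X.le_Dc (hU.of_dvd_nat (card_dvd_of_le inf_le_left)) ?_ inf_le_right hnU
  intro s hs
  refine mem_normalizer_of_conj_mem _ fun y hy => ⟨(mem_normalizer_iff.1 ?_ y).1 hy.1,
    (Nrm S).mul_mem ((Nrm S).mul_mem (le_normalizer hs) hy.2) ((Nrm S).inv_mem (le_normalizer hs))⟩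
  exact normalizer_inf_normalizer_le_normalizer_sup _ _
    ⟨le_normalizer_oddCore_map _ (X.S_le_C hv hs), hS hs⟩

theorem OC_map {n v : G} : (OC v).map (MulAut.conj n).toMonoidHom = OC (n * v * n⁻¹) :=
  (Balance.centralizerPPrimeCore_conj (p := 2) n v).symm

/-- `N(S)` is soluble. -/
theorem solvable_Nrm : Group.IsSolvable ↥(Nrm S) := by
  haveI : Fact (Nat.Prime 2) := ⟨Nat.prime_two⟩
  let SN : Sylow 2 ↥(Nrm S) := S.subtype le_normalizer
  haveI : (SN : Subgroup ↥(Nrm S)).Normal := normal_in_normalizer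
  haveI : Group.IsSolvable ↥(SN : Subgroup ↥(Nrm S)) := Coprime.isSolvable_of_isPGroup SN.isPGroup'
  haveI : Group.IsSolvable (↥(Nrm S) ⧸ (SN : Subgroup ↥(Nrm S))) :=
    OddOrder.FeitThompson.isSolvable_of_odd_card (by
      rw [← index_eq_card]; exact Nat.odd_iff.2 (Nat.two_dvd_ne_zero.1 SN.not_dvd_index))
  exact Group.isSolvable_of_ker_le_range (SN : Subgroup ↥(Nrm S)).subtype
    (QuotientGroup.mk' (SN : Subgroup ↥(Nrm S))) (by rw [QuotientGroup.ker_mk', range_subtype])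

/-- The centralisers of the central involutions are soluble. -/
theorem solvable_C {v : G} (hv : Cen S v) (hv1 : v ≠ 1) :
    Group.IsSolvable ↥(centralizer ({v} : Set G)) := by
  set C := centralizer ({v} : Set G)
  haveI := X.solvable_Nrm
  haveI : Group.IsSolvable ↥(Cfsg.oddCore ↥C) :=
    OddOrder.FeitThompson.isSolvable_of_odd_card ZStar.Elements.oddCore_odd
  haveI : (Cfsg.oddCore ↥C).Normal := by unfold Cfsg.oddCore; infer_instance
  haveI : Group.IsSolvable (↥C ⧸ Cfsg.oddCore ↥C) := by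
    haveI : Group.IsSolvable ↥(Nrm S ⊓ C) := Coprime.isSolvable_of_le inf_le_left
    refine Group.isSolvable_of_surjective (f := (QuotientGroup.mk' (Cfsg.oddCore ↥C)).comp
      (inclusion (inf_le_right : Nrm S ⊓ C ≤ C))) fun q => ?_
    obtain ⟨c, rfl⟩ := QuotientGroup.mk'_surjective _ q
    obtain ⟨k, ⟨k, hk, rfl⟩, n, hn, e⟩ := X.exists_split hv hv1 (mem_centralizer_singleton_iff.1 c.2)
    refine ⟨⟨n, hn⟩, ?_⟩
    rw [show c = k * inclusion (inf_le_right : Nrm S ⊓ C ≤ C) ⟨n, hn⟩ from Subtype.ext e, map_mul,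
      show QuotientGroup.mk' (Cfsg.oddCore ↥C) k = 1 from (QuotientGroup.eq_one_iff k).2 hk, one_mul]
    rfl
  exact Group.isSolvable_of_ker_le_range (Cfsg.oddCore ↥C).subtype
    (QuotientGroup.mk' (Cfsg.oddCore ↥C)) (by rw [QuotientGroup.ker_mk', range_subtype])

end Ctx

end Cfsg.Agent.Inter3185.U34
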