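import Cfsg.Agent.Lib.Inter3185.U34.Core
import Cfsg.Agent.Lib.Walter.JRCore.Quot

/-!
# The signalizer `θ(H) = O(H) (O(C(S)) ∩ H)` (helper88)
-/

set_option autoImplicit false
set_option linter.style.haveILetI false
set_option linter.unusedSectionVars false

namespace Cfsg.Agent.Inter3185.U34

open Subgroup Cfsg.Agent.Lib Cfsg.Agent.Lib.Inv59.Basic
open Walter.JRCore (qm qm_surjective qm_eq_one_iff quoSylow mem_quoSylow qm_mem_quoSylow)

universe u

variable {G : Type u} [Group G] [Finite G]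

/-- An element of an odd subgroup is a fixed element times an inverted one. -/
theorem exists_fixed_inverted {W : Subgroup G} (hW : Odd (Nat.card W)) {u y : G} (hu : u * u = 1)
    (huW : u ∈ normalizer (W : Set G)) (hy : y ∈ W) :
    ∃ i ∈ W, u * i * u⁻¹ = i⁻¹ ∧ u * (y * i) = y * i * u ∧
      ∀ v : G, v * y = y * v → v * u = u * v → v * i = i * v := by
  set d := y⁻¹ * (u * y * u⁻¹) with hd
  have hdW : d ∈ W := mul_mem (inv_mem hy) ((mem_normalizer_iff.1 huW y).1 hy)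
  have hui : u⁻¹ = u := inv_eq_of_mul_eq_one_right hu
  have hdi : u * d * u⁻¹ = d⁻¹ := by
    rw [hd, mul_inv_rev, inv_inv, hui]
    calc u * (y⁻¹ * (u * y * u)) * u = u * y⁻¹ * u * y * (u * u) := by group
      _ = u * y⁻¹ * u * y := by rw [hu, mul_one]
      _ = (u * y * u)⁻¹ * y := by rw [mul_inv_rev, mul_inv_rev, hui, mul_assoc u y⁻¹ u]
  obtain ⟨k, hk⟩ := orderOf_odd hW hdW
  have hr2 : d ^ (k + 1) * d ^ (k + 1) = d := by
    rw [← pow_add, show k + 1 + (k + 1) = orderOf d + 1 by omega, pow_succ, pow_orderOf_eq_one, one_mul]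
  have hri : u * d ^ (k + 1) * u⁻¹ = (d ^ (k + 1))⁻¹ := by rw [← conj_pow, hdi, inv_pow]
  refine ⟨d ^ (k + 1), pow_mem hdW _, hri, ?_, fun v hvy hvu => ?_⟩
  · refine mul_inv_eq_iff_eq_mul.1 ?_
    calc u * (y * d ^ (k + 1)) * u⁻¹ = y * (y⁻¹ * (u * y * u⁻¹)) * (u * d ^ (k + 1) * u⁻¹) := by group
      _ = y * d ^ (k + 1) := by
        rw [← hd, hri, mul_assoc, show d * (d ^ (k + 1))⁻¹ = d ^ (k + 1) from
          mul_inv_eq_iff_eq_mul.2 hr2.symm]
  · have h : Commute v d :=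
      ((show Commute v y from hvy).inv_right).mul_right
        (((show Commute v u from hvu).mul_right hvy).mul_right (show Commute v u from hvu).inv_right)
    exact (h.pow_right _).eq

variable [IsSimpleGroup G]

/-- `θ(H)`. -/
abbrev theta (S : Sylow 2 G) (H : Subgroup G) : Subgroup G :=
  Balance.coreIn 2 H ⊔ (Dc S ⊓ H)

namespace Ctx

variable {S : Sylow 2 G} {a b g : G} (X : Ctx S a b g)
include X

theorem cases_cen {v : G} (hv : Cen S v) (hv1 : v ≠ 1) : v = a ∨ v = b ∨ v = a * b :=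
  (X.four v hv.mem hv.sq).resolve_left hv1

/-- Elements of `S`-invariant odd subgroups of `H` in `O(H) N(S)` lie in `θ(H)`. -/
theorem mem_theta {H W : Subgroup G} (hSH : (S : Subgroup G) ≤ H) (hW : Odd (Nat.card W))
    (hWH : W ≤ H) (hSW : (S : Subgroup G) ≤ normalizer (W : Set G)) {x : G} (hx : x ∈ W)
    (hdec : x ∈ Balance.coreIn 2 H ⊔ (Nrm S ⊓ H)) : x ∈ theta S H := by
  set O := Balance.coreIn 2 H with hO
  have hHO : H ≤ normalizer (O : Set G) := Balance.le_normalizer_coreIn H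
  have hU : Odd (Nat.card ↥(O ⊔ W)) := odd_sup (Walter.JRCore.odd_coreIn H) hW (hWH.trans hHO)
  rw [← SetLike.mem_coe, coe_mul_of_right_le_normalizer_left _ _
    ((inf_le_right : Nrm S ⊓ H ≤ H).trans hHO)] at hdec
  obtain ⟨k, hk, n, hn, rfl⟩ := hdec
  refine mul_mem (mem_sup_left hk) (mem_sup_right ⟨?_, hn.2⟩)
  have hnU : n ∈ (O ⊔ W) ⊓ Nrm S := ⟨by
    have := mul_mem (inv_mem (mem_sup_left hk : k ∈ O ⊔ W)) (mem_sup_right hx : k * n ∈ O ⊔ W)
    rwa [inv_mul_cancel_left] at this, hn.1⟩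
  refine X.le_Dc (hU.of_dvd_nat (card_dvd_of_le inf_le_left)) ?_ inf_le_right hnU
  intro s hs
  refine mem_normalizer_of_conj_mem _ fun y hy => ⟨(mem_normalizer_iff.1 ?_ y).1 hy.1,
    (Nrm S).mul_mem ((Nrm S).mul_mem (le_normalizer hs) hy.2) ((Nrm S).inv_mem (le_normalizer hs))⟩
  exact normalizer_inf_normalizer_le_normalizer_sup _ _ ⟨hHO (hSH hs), hSW hs⟩

/-- Elements inverted by one and centralised by another central involution generate. -/
theorem le_theta_of_inverted {H W : Subgroup G} (hW : Odd (Nat.card W)) (hWH : W ≤ H)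
    (hSW : (S : Subgroup G) ≤ normalizer (W : Set G))
    (h : ∀ v u, Cen S v → v ≠ 1 → Cen S u → u ≠ 1 → u ≠ v → ∀ x ∈ W, x * v = v * x →
      u * x * u⁻¹ = x⁻¹ → x ∈ theta S H) : W ≤ theta S H := by
  have key : ∀ v u, Cen S v → v ≠ 1 → Cen S u → u ≠ 1 → u ≠ v → ∀ y ∈ W, v * y = y * v →
      y ∈ theta S H := by
    intro v u hv hv1 hu hu1 huv y hy hyv
    obtain ⟨i, hi, hinv, hfix, hcom⟩ := exists_fixed_inverted hW hu.sq (hSW hu.mem) hy
    have hiv := hcom v hyv (hv.comm u hu.mem).symm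
    have h1 : i ∈ theta S H := h v u hv hv1 hu hu1 huv i hi hiv.symm hinv
    set W' := W ⊓ centralizer ({v} : Set G) ⊓ centralizer ({u} : Set G) with hW'
    have h2 : y * i ∈ Dc S := by
      refine X.le_Dc (W := W') (hW.of_dvd_nat (card_dvd_of_le (inf_le_left.trans inf_le_left))) ?_ ?_ ?_
      · intro s hs
        refine mem_normalizer_of_conj_mem _ fun z hz => ⟨⟨(mem_normalizer_iff.1 (hSW hs) z).1 hz.1.1, ?_⟩, ?_⟩
        · exact mul_mem (mul_mem (X.S_le_C hv hs) hz.1.2) (Subgroup.inv_mem _ (X.S_le_C hv hs))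
        · exact mul_mem (mul_mem (X.S_le_C hu hs) hz.2) (Subgroup.inv_mem _ (X.S_le_C hu hs))
      · intro z hz
        exact X.base.centralizer_pair hv hv1 hu.mem hu.sq hu1 huv
          (mem_centralizer_singleton_iff.1 hz.2) (mem_centralizer_singleton_iff.1 hz.1.2)
      · exact ⟨⟨mul_mem hy hi, mem_centralizer_singleton_iff.2
          ((show Commute v y from hyv).mul_right hiv).eq.symm⟩, mem_centralizer_singleton_iff.2 hfix.symm⟩
    have := mul_mem (mem_sup_right (S := Balance.coreIn 2 H) ⟨h2, hWH (mul_mem hy hi)⟩ :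
      y * i ∈ theta S H) (inv_mem h1)
    rwa [mul_inv_cancel_right] at this
  refine le_of_fixed hW X.ha.sq X.hb.sq X.ab_comm (hSW X.ha.mem) (hSW X.hb.mem)
    (fun x hx h' => key a b X.ha X.a_ne X.hb X.b_ne X.b_ne_a x hx h')
    (fun x hx h' => key b a X.hb X.b_ne X.ha X.a_ne X.b_ne_a.symm x hx h')
    (fun x hx h' => key (a * b) a X.hc X.c_ne X.ha X.a_ne (fun e => X.b_ne (left_eq_mul.1 e)) x hx h')

/-- Conjugates of the two generators of the four-group modulo the core give a decomposition. -/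
theorem dec_of_four {H : Subgroup G} (hSH : (S : Subgroup G) ≤ H) {t : G} (ht : t ∈ H)
    (h1 : qm H ⟨t * a * t⁻¹, mul_mem (mul_mem ht (hSH X.ha.mem)) (inv_mem ht)⟩ ∈
      (quoSylow hSH : Subgroup _))
    (h2 : qm H ⟨t * b * t⁻¹, mul_mem (mul_mem ht (hSH X.hb.mem)) (inv_mem ht)⟩ ∈
      (quoSylow hSH : Subgroup _)) :
    t ∈ Balance.coreIn 2 H ⊔ (Nrm S ⊓ H) := by
  haveI : Fact (Nat.Prime 2) := ⟨Nat.prime_two⟩
  set O := Balance.coreIn 2 H with hO
  set Y := O ⊔ (S : Subgroup G) with hY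
  have hpre : ∀ y (hy : y ∈ H), qm H ⟨y, hy⟩ ∈ (quoSylow hSH : Subgroup _) → y ∈ Y := by
    intro y hy hq
    obtain ⟨s, hs, he⟩ := (mem_quoSylow hSH).1 hq
    have h : (s : G)⁻¹ * y ∈ O := by
      refine (qm_eq_one_iff (mul_mem (inv_mem s.2) hy)).1 ?_
      show qm H (s⁻¹ * ⟨y, hy⟩) = 1
      rw [map_mul, map_inv, he, inv_mul_cancel]
    have := mul_mem (mem_sup_right (S := O) hs) (mem_sup_left (T := (S : Subgroup G)) h)
    rwa [mul_inv_cancel_left] at this
  set R : Subgroup G := Subgroup.closure {t * a * t⁻¹, t * b * t⁻¹} with hR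
  have hRY : R ≤ Y := (closure_le _).2 (by
    rintro y (rfl | rfl)
    exacts [hpre _ _ h1, hpre _ _ h2])
  have hRp : IsPGroup 2 ↥R := by
    refine (S.isPGroup'.map (MulAut.conj t).toMonoidHom).to_le ((closure_le _).2 ?_)
    rintro y (rfl | rfl)
    exacts [⟨a, X.ha.mem, rfl⟩, ⟨b, X.hb.mem, rfl⟩]
  obtain ⟨x, hx, hxR⟩ := exists_conj_mem_sylow S Y R le_sup_right hRp hRY
  have hxH : x ∈ H := (sup_le (Balance.coreIn_le H) hSH) hx
  have hn : x * t ∈ Nrm S := by
    refine X.base.mem_Nrm_of_four X.ha X.a_ne X.hb.mem X.hb.sq X.b_ne X.b_ne_a ?_ ?_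
    · have := hxR _ (subset_closure (Or.inr rfl))
      rwa [show x * (t * b * t⁻¹) * x⁻¹ = x * t * b * (x * t)⁻¹ by group] at this
    · have := hxR _ (subset_closure (Or.inl rfl))
      rwa [show x * (t * a * t⁻¹) * x⁻¹ = x * t * a * (x * t)⁻¹ by group] at this
  have hYle : Y ≤ O ⊔ (Nrm S ⊓ H) := sup_le_sup_left (le_inf le_normalizer hSH) _
  have := mul_mem (inv_mem (hYle hx))
    (mem_sup_right (S := O) (show x * t ∈ Nrm S ⊓ H from ⟨hn, mul_mem hxH ht⟩))
  rwa [inv_mul_cancel_left] at this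

/-- Either the central involutions are isolated in `H` or they are permuted transitively. -/
theorem isolated_or_cycle {H : Subgroup G} (hSH : (S : Subgroup G) ≤ H) :
    (∀ v, Cen S v → ∀ h ∈ H, h * v * h⁻¹ ∈ (S : Subgroup G) → h * v * h⁻¹ = v) ∨
    ∃ n ∈ Nrm S ⊓ H, n * a * n⁻¹ = b ∧ n * b * n⁻¹ = a * b := by
  haveI : Fact (Nat.Prime 2) := ⟨Nat.prime_two⟩
  refine or_iff_not_imp_left.2 fun hne => ?_
  push Not at hne
  obtain ⟨v, hv, h, hh, hw, hne⟩ := hne
  have hv1 : v ≠ 1 := fun e => hne (by rw [e]; group)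
  -- an element of `N_H(S)` moving `v`
  obtain ⟨n, hn, hnv⟩ : ∃ n ∈ Nrm S ⊓ H, n * v * n⁻¹ ≠ v := by
    have hwc : Cen S (h * v * h⁻¹) := by
      obtain ⟨n, hn, e⟩ := X.base.fusion hv hv1 hw
      exact e ▸ hv.map hn
    set w := h * v * h⁻¹ with hwdef
    obtain ⟨c, hc, hcS⟩ := exists_conj_mem_sylow S (H ⊓ centralizer ({w} : Set G))
      ((S : Subgroup G).map (MulAut.conj h).toMonoidHom) (le_inf hSH (X.S_le_C hwc))
      (S.isPGroup'.map _) (by
        rintro _ ⟨s, hs, rfl⟩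
        refine ⟨H.mul_mem (H.mul_mem hh (hSH hs)) (H.inv_mem hh), mem_centralizer_singleton_iff.2 ?_⟩
        show h * s * h⁻¹ * (h * v * h⁻¹) = h * v * h⁻¹ * (h * s * h⁻¹)
        calc h * s * h⁻¹ * (h * v * h⁻¹) = h * (s * v) * h⁻¹ := by group
          _ = h * (v * s) * h⁻¹ := by rw [hv.comm s hs]
          _ = h * v * h⁻¹ * (h * s * h⁻¹) := by group)
    refine ⟨c * h, ⟨mem_normalizer_of_conj_mem _ fun s hs => ?_, mul_mem hc.1 hh⟩, ?_⟩
    · have := hcS _ ⟨s, hs, rfl⟩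
      rwa [show c * (MulAut.conj h).toMonoidHom s * c⁻¹ = c * h * s * (c * h)⁻¹ by simp; group] at this
    · rw [show c * h * v * (c * h)⁻¹ = c * w * c⁻¹ by rw [hwdef]; group,
        mem_centralizer_singleton_iff.1 hc.2, mul_inv_cancel_right]
      exact hne
  have hfa : n * a * n⁻¹ ≠ a := by
    intro e
    have ha' := mul_inv_eq_iff_eq_mul.1 e
    have hb' := X.Nrm_fix hn.1 ha'
    refine hnv ?_
    rcases X.cases_cen hv hv1 with rfl | rfl | rfl
    · exact e
    · rw [hb', mul_inv_cancel_right]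
    · rw [show n * (a * b) * n⁻¹ = n * a * n⁻¹ * (n * b * n⁻¹) by group, e, hb', mul_inv_cancel_right]
  have hfsq : n * (n * a * n⁻¹) * n⁻¹ ≠ a := fun e => hfa (by
    refine mul_inv_eq_iff_eq_mul.2 (commute_of_sq hn.1 X.ha ?_)
    rw [show n * (n * a * n⁻¹) * n⁻¹ = n * n * a * (n * n)⁻¹ by group] at e
    exact mul_inv_eq_iff_eq_mul.1 e)
  have hma := X.ha.map hn.1
  have hmb := X.hb.map hn.1
  have hnb1 : n * b * n⁻¹ ≠ 1 := fun e => X.b_ne (conj_eq_one_iff.1 e)
  have hnab : n * b * n⁻¹ ≠ n * a * n⁻¹ := fun e => X.b_ne_a (mul_left_cancel (mul_right_cancel e))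
  rcases X.cases_cen hma (fun e => X.a_ne (conj_eq_one_iff.1 e)) with e | e | e
  · exact absurd e hfa
  · rcases X.cases_cen hmb hnb1 with e' | e' | e'
    · exact absurd (by rw [e, e']) hfsq
    · exact absurd (e'.trans e.symm) hnab
    · exact ⟨n, hn, e, e'⟩
  · rcases X.cases_cen hmb hnb1 with e' | e' | e'
    · have hc : n * (a * b) * n⁻¹ = b := by
        rw [show n * (a * b) * n⁻¹ = n * a * n⁻¹ * (n * b * n⁻¹) by group, e, e', X.ab_comm, mul_assoc,
          X.ha.sq, mul_one]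
      refine ⟨n⁻¹, Subgroup.inv_mem _ hn, ?_, ?_⟩
      · calc n⁻¹ * a * n⁻¹⁻¹ = n⁻¹ * (n * b * n⁻¹) * n := by rw [e', inv_inv]
          _ = b := by group
      · calc n⁻¹ * b * n⁻¹⁻¹ = n⁻¹ * (n * (a * b) * n⁻¹) * n := by rw [hc, inv_inv]
          _ = a * b := by group
    · refine absurd ?_ hfsq
      rw [e, show n * (a * b) * n⁻¹ = n * a * n⁻¹ * (n * b * n⁻¹) by group, e, e', mul_assoc, X.hb.sq,
        mul_one]
    · exact absurd (e'.trans e.symm) hnab

/-- `θ(H)` contains every `S`-invariant subgroup of odd order of `H`. -/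
theorem le_theta (hK : Walter.PropKnown.{u}) (hKF : Walter.PropKnownFacts.{u})
    (hIH : Below.{u} (Nat.card G)) {H : Subgroup G} (hH : H ≠ ⊤) (hSH : (S : Subgroup G) ≤ H)
    {W : Subgroup G} (hW : Odd (Nat.card W)) (hWH : W ≤ H)
    (hSW : (S : Subgroup G) ≤ normalizer (W : Set G)) : W ≤ theta S H := by
  classical
  haveI : Fact (Nat.Prime 2) := ⟨Nat.prime_two⟩
  refine X.le_theta_of_inverted hW hWH hSW fun v u hv hv1 hu hu1 huv x hx hxv hxi => ?_
  have hxH := hWH hx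
  set SH : Sylow 2 ↥H := S.subtype hSH
  rcases X.isolated_or_cycle hSH with hiso | ⟨n, hn, hna, hnb⟩
  · -- Glauberman
    set uH : ↥H := ⟨u, hSH hu.mem⟩ with huH
    obtain ⟨N, hN, hNodd, hcomm⟩ := ZStar.StronglyClosed.involutionThm ↥H SH uH
      (orderOf_eq_prime (by rw [pow_two]; exact Subtype.ext hu.sq)
        fun e => hu1 (congrArg Subtype.val e))
      hu.mem fun h hh => Subtype.ext (hiso u hu h h.2 hh)
    haveI := hN
    set xH : ↥H := ⟨x, hxH⟩ with hxdef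
    have hxx : xH * xH ∈ N := by
      have h1 := hcomm xH
      rw [show uH * xH * uH⁻¹ * xH⁻¹ = (xH * xH)⁻¹ from Subtype.ext (by
        show u * x * u⁻¹ * x⁻¹ = (x * x)⁻¹
        rw [hxi, mul_inv_rev])] at h1
      exact inv_mem_iff.1 h1
    have hxN : xH ∈ N := by
      obtain ⟨k, hk⟩ := orderOf_odd hW hx
      have he : xH = (xH * xH) ^ (k + 1) := Subtype.ext (by
        show x = (x * x) ^ (k + 1)
        rw [← pow_two, ← pow_mul, show 2 * (k + 1) = orderOf x + 1 by omega, pow_succ,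
          pow_orderOf_eq_one, one_mul])
      rw [he]
      exact pow_mem hxx _
    exact mem_sup_left ⟨xH, Cores.le_pPrimeCore (Nat.coprime_two_right.2 hNodd) hxN, rfl⟩
  refine X.mem_theta hSH hW hWH hSW hx ?_
  set T := quoSylow hSH with hT
  let q : (y : G) → y ∈ H → Walter.JRCore.Quo H := fun y hy => qm H ⟨y, hy⟩
  have hqmul : ∀ y z (hy : y ∈ H) (hz : z ∈ H), q (y * z) (mul_mem hy hz) = q y hy * q z hz :=
    fun y z hy hz => map_mul (qm H) ⟨y, hy⟩ ⟨z, hz⟩
  have hqconj : ∀ y z (hy : y ∈ H) (hz : z ∈ H), q (y * z * y⁻¹) (mul_mem (mul_mem hy hz) (inv_mem hy)) =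
      q y hy * q z hz * (q y hy)⁻¹ := fun y z hy hz => by
    show qm H (⟨y, hy⟩ * ⟨z, hz⟩ * ⟨y, hy⟩⁻¹) = _
    rw [map_mul, map_mul, map_inv]
  have hqS : ∀ y (hy : y ∈ (S : Subgroup G)), q y (hSH hy) ∈ (T : Subgroup _) := fun y hy =>
    qm_mem_quoSylow hSH hy
  have hqne : ∀ y (hy : y ∈ (S : Subgroup G)), y ≠ 1 → q y (hSH hy) ≠ 1 := fun y hy h1 =>
    Walter.JRCore.qm_ne_one hSH hy h1
  have hqone : q 1 (one_mem H) = 1 := map_one (qm H)
  set ā := q a (hSH X.ha.mem) with hā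
  set bb := q b (hSH X.hb.mem) with hbb
  set nb := q n hn.2 with hnb'
  have hTCen : ∀ w (hw : Cen S w), Cen T (q w (hSH hw.mem)) := fun w hw =>
    ⟨hqS w hw.mem, fun s hs => by
      obtain ⟨s, hs', rfl⟩ := (mem_quoSylow hSH).1 hs
      show qm H s * qm H ⟨w, _⟩ = qm H ⟨w, _⟩ * qm H s
      rw [← map_mul, ← map_mul, show s * ⟨w, hSH hw.mem⟩ = ⟨w, hSH hw.mem⟩ * s from
        Subtype.ext (hw.comm s hs')],
     by rw [← hqmul]; simp only [hw.sq]; exact hqone⟩
  have hqcong : ∀ y z (hy : y ∈ H) (hz : z ∈ H), y = z → q y hy = q z hz := by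
    intro y z hy hz e; subst e; rfl
  have hna' : nb * ā * nb⁻¹ = bb := by rw [← hqconj]; exact hqcong _ _ _ _ hna
  have hnb'' : nb * bb * nb⁻¹ = ā * bb := by
    rw [← hqconj, ← hqmul]; exact hqcong _ _ _ _ hnb
  have hfour : ∀ y ∈ (T : Subgroup _), y * y = 1 →
      y = 1 ∨ y = ā ∨ y = bb ∨ y = ā * bb := by
    intro y hy hy2
    obtain ⟨⟨s, hsH⟩, hs, rfl⟩ := (mem_quoSylow hSH).1 hy
    have hs2 : s * s = 1 := Walter.JRCore.qm_injective_sylow hSH (mul_mem hs hs) (one_mem _) (by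
      show q (s * s) _ = q 1 _
      rw [hqmul, hqone]; exact hy2)
    rcases X.four s hs hs2 with e | e | e | e <;> subst e
    · exact Or.inl hqone
    · exact Or.inr (Or.inl rfl)
    · exact Or.inr (Or.inr (Or.inl rfl))
    · exact Or.inr (Or.inr (Or.inr (hqmul a b _ _)))
  by_cases htwo : ∀ N : Subgroup (Walter.JRCore.Quo H), N.Normal → IsPGroup 2 N → N = ⊥
  swap
  · -- a normal 2-subgroup: the four-group is normal modulo the core
    push Not at htwo
    obtain ⟨N, hN, hNp, hNne⟩ := htwo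
    haveI := hN
    have hNT : N ≤ (T : Subgroup (Walter.JRCore.Quo H)) :=
      (T.3 (hNp.to_sup_of_normal_left T.2) le_sup_right) ▸ le_sup_left
    haveI : Nontrivial ↥N := (nontrivial_iff_ne_bot N).2 hNne
    obtain ⟨k, hk, hcard⟩ := hNp.nontrivial_iff_card.1 inferInstance
    obtain ⟨y, hy⟩ := exists_prime_orderOf_dvd_card' 2 (G := ↥N) (hcard ▸ dvd_pow_self 2 hk.ne')
    have hy2 : (y : Walter.JRCore.Quo H) * y = 1 := by
      have := pow_orderOf_eq_one y
      rw [hy, pow_two] at this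
      exact congrArg Subtype.val this
    have hy1 : (y : Walter.JRCore.Quo H) ≠ 1 := fun e => by
      rw [show y = 1 from Subtype.ext e, orderOf_one] at hy
      omega
    have hnc : nb * (ā * bb) * nb⁻¹ = ā := by
      rw [show nb * (ā * bb) * nb⁻¹ = nb * ā * nb⁻¹ * (nb * bb * nb⁻¹) by group, hna', hnb'',
        ← mul_assoc, (hTCen a X.ha).comm bb (hqS b X.hb.mem), mul_assoc, (hTCen b X.hb).sq, mul_one]
    have h1 : ā ∈ N → bb ∈ N := fun h => hna' ▸ hN.conj_mem ā h nb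
    have h2 : bb ∈ N → ā * bb ∈ N := fun h => hnb'' ▸ hN.conj_mem bb h nb
    have h3 : ā * bb ∈ N → ā ∈ N := fun h => hnc ▸ hN.conj_mem (ā * bb) h nb
    have hab : ā ∈ N ∧ bb ∈ N := by
      rcases hfour _ (hNT y.2) hy2 with e | e | e | e
      · exact absurd e hy1
      · exact ⟨e ▸ y.2, h1 (e ▸ y.2)⟩
      · exact ⟨h3 (h2 (e ▸ y.2)), e ▸ y.2⟩
      · exact ⟨h3 (e ▸ y.2), h1 (h3 (e ▸ y.2))⟩
    refine X.dec_of_four hSH hxH ?_ ?_
    · show q (x * a * x⁻¹) _ ∈ _
      rw [hqconj x a hxH (hSH X.ha.mem)]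
      exact hNT (hN.conj_mem _ hab.1 _)
    · show q (x * b * x⁻¹) _ ∈ _
      rw [hqconj x b hxH (hSH X.hb.mem)]
      exact hNT (hN.conj_mem _ hab.2 _)
  have hsix : PiHomog3258.Local74.Sixty4 ↥(T : Subgroup (Walter.JRCore.Quo H)) := by
    refine sixty4_congr (MulEquiv.ofBijective
      (MonoidHom.mk' (fun s : ↥(S : Subgroup G) =>
        (⟨q s (hSH s.2), hqS s s.2⟩ : ↥(T : Subgroup (Walter.JRCore.Quo H)))) fun s t => Subtype.ext (hqmul s t _ _))
      ⟨fun s t e => Subtype.ext (Walter.JRCore.qm_injective_sylow hSH s.2 t.2 (congrArg Subtype.val e)),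
       fun y => ?_⟩) X.sixty
    obtain ⟨s, hs, e⟩ := (mem_quoSylow hSH).1 y.2
    exact ⟨⟨s, hs⟩, Subtype.ext e⟩
  have hdec : ∀ t (ht : t ∈ H), q t ht * ā * (q t ht)⁻¹ ∈ (T : Subgroup _) →
      q t ht * bb * (q t ht)⁻¹ ∈ (T : Subgroup _) → t ∈ Balance.coreIn 2 H ⊔ (Nrm S ⊓ H) :=
    fun t ht h1 h2 => X.dec_of_four hSH ht
      (show q (t * a * t⁻¹) _ ∈ (T : Subgroup _) by rw [hqconj t a ht (hSH X.ha.mem)]; exact h1)
      (show q (t * b * t⁻¹) _ ∈ (T : Subgroup _) by rw [hqconj t b ht (hSH X.hb.mem)]; exact h2)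
  have hqN : ∀ t (ht : t ∈ H), t ∈ Nrm S → q t ht ∈ Nrm T := by
    intro t ht htN
    refine mem_normalizer_of_conj_mem _ fun y hy => ?_
    obtain ⟨s, hs, rfl⟩ := (mem_quoSylow hSH).1 hy
    show q t ht * q (s : G) s.2 * (q t ht)⁻¹ ∈ _
    rw [← hqconj]
    exact hqS _ ((mem_normalizer_iff.1 htN _).1 hs)
  have htri : Tri T ā bb nb := by
    refine ⟨hsix, hTCen a X.ha, hTCen b X.hb, hqne a X.ha.mem X.a_ne, hqne b X.hb.mem X.b_ne,
      fun e => X.b_ne_a (Walter.JRCore.qm_injective_sylow hSH X.hb.mem X.ha.mem e),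
      hfour, hqN n hn.2 hn.1, hna', hnb'', ?_, ?_, ?_, htwo⟩
    · intro t h1 h2
      obtain ⟨⟨t, ht⟩, rfl⟩ := qm_surjective H t
      have hd := hdec t ht h1 h2
      rw [← SetLike.mem_coe, coe_mul_of_right_le_normalizer_left _ _
        ((inf_le_right : Nrm S ⊓ H ≤ H).trans (Balance.le_normalizer_coreIn H))] at hd
      obtain ⟨k, hk, m, hm, rfl⟩ := hd
      show q (k * m) ht ∈ Nrm T
      rw [hqmul k m (Balance.coreIn_le H hk) hm.2, show q k _ = 1 from
        (qm_eq_one_iff (Balance.coreIn_le H hk)).2 hk, one_mul]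
      exact hqN m hm.2 hm.1
    · intro w hw hw1
      obtain ⟨⟨s, hsH⟩, hs, rfl⟩ := (mem_quoSylow hSH).1 hw.mem
      have hs2 : s * s = 1 := Walter.JRCore.qm_injective_sylow hSH (mul_mem hs hs) (one_mem _) (by
        show q (s * s) _ = q 1 _
        rw [hqmul, hqone]; exact hw.sq)
      have hscen : Cen S s := by
        rcases X.four s hs hs2 with e | e | e | e <;> subst e
        · exact absurd hqone hw1
        · exact X.ha
        · exact X.hb
        · exact X.hc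
      have hs1 : s ≠ 1 := fun e => hw1 ((hqcong s 1 hsH (one_mem H) e).trans hqone)
      haveI := X.solvable_C hscen hs1
      haveI : Group.IsSolvable ↥(H ⊓ centralizer ({s} : Set G)) := Coprime.isSolvable_of_le inf_le_right
      refine Group.isSolvable_of_surjective (f := ((qm H).comp
        (inclusion (inf_le_left : H ⊓ centralizer ({s} : Set G) ≤ H))).codRestrict _ fun z => ?_) fun z => ?_
      · refine mem_centralizer_singleton_iff.2 ?_
        show qm H _ * qm H ⟨s, hsH⟩ = qm H ⟨s, hsH⟩ * qm H _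
        rw [← map_mul, ← map_mul, show inclusion (inf_le_left : H ⊓ centralizer ({s} : Set G) ≤ H) z *
            ⟨s, hsH⟩ = ⟨s, hsH⟩ * inclusion inf_le_left z from
          Subtype.ext (mem_centralizer_singleton_iff.1 z.2.2)]
      · obtain ⟨z, hz⟩ := z
        obtain ⟨⟨y, hy⟩, rfl⟩ := qm_surjective H z
        obtain ⟨y', hy', he⟩ := Walter.JRCore.exists_commute_lift hSH hs hy
          (mem_centralizer_singleton_iff.1 hz).symm
        exact ⟨⟨y', y'.2, mem_centralizer_singleton_iff.2 hy'⟩, Subtype.ext he⟩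
    · intro N hN hNodd
      haveI := hN
      exact Cores.pPrimeCore_quotient_pPrimeCore 2 |> fun h => le_bot_iff.1
        (h ▸ Cores.le_pPrimeCore (Nat.coprime_two_right.2 hNodd))
  obtain ⟨E, hEn, hTE, hEC⟩ := htri.exists_le_Nrm hK hKF hIH
    (lt_of_le_of_lt (Nat.card_le_card_of_surjective _ (qm_surjective H))
      (lt_of_le_of_ne (card_le_card_group H) fun e => hH (card_eq_iff_eq_top H |>.1 e)))
  have hxE : q x hxH ∈ E := by
    have h1 : q (x * x) (mul_mem hxH hxH) ∈ E := by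
      have hu' := hTE (hqS u hu.mem)
      have h2 := mul_mem (hEn.conj_mem _ hu' (q x hxH)) (inv_mem hu')
      rw [← hqconj x u hxH (hSH hu.mem)] at h2
      have h3 : q (x * u * x⁻¹) (mul_mem (mul_mem hxH (hSH hu.mem)) (inv_mem hxH)) *
          (q u (hSH hu.mem))⁻¹ = q (x * x) (mul_mem hxH hxH) := by
        rw [mul_inv_eq_iff_eq_mul, ← hqmul]
        refine hqcong _ _ _ _ (mul_inv_eq_iff_eq_mul.1 ?_)
        rw [show x * u * x⁻¹ * u⁻¹ = x * (u * x * u⁻¹)⁻¹ by group, hxi, inv_inv]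
      rwa [h3] at h2
    obtain ⟨k, hk⟩ := orderOf_odd hW hx
    have h2 : q x hxH = q (x * x) (mul_mem hxH hxH) ^ (k + 1) := by
      show qm H _ = qm H _ ^ (k + 1)
      rw [← map_pow]
      refine congrArg _ (Subtype.ext ?_)
      show x = (x * x) ^ (k + 1)
      rw [← pow_two, ← pow_mul, show 2 * (k + 1) = orderOf x + 1 by omega, pow_succ,
        pow_orderOf_eq_one, one_mul]
    rw [h2]
    exact pow_mem h1 _
  have hxN : q x hxH ∈ Nrm T := hEC _ (hTCen v hv) (hqne v hv.mem hv1)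
    ⟨hxE, mem_centralizer_singleton_iff.2 (by rw [← hqmul, ← hqmul]; exact hqcong _ _ _ _ hxv)⟩
  exact hdec x hxH ((mem_normalizer_iff.1 hxN _).1 (hqS a X.ha.mem))
    ((mem_normalizer_iff.1 hxN _).1 (hqS b X.hb.mem))

end Ctx

end Cfsg.Agent.Inter3185.U34
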